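import Cfsg.Agent.Mrg.Omega.NO3S.OneQ.KOneTIG
import Cfsg.Agent.Mrg.Omega.NO3S.OneQ.KOneDx
import Cfsg.Agent.Mrg.Omega.TwoFFour.SzNatC
import Cfsg.Agent.Mrg.Omega.NO3S.OneQ.TIq.Base
import Cfsg.Agent.Mrg.Omega.NO3S.OneQ.TIq.Phi
import Cfsg.Agent.Mrg.Omega.NO3S.OneQ.POne
import Cfsg.Agent.Involutions.BaerSuzuki
import Cfsg.Agent.Mrg.Omega.NO3S.OneQ.PlaneEnd
import Cfsg.Agent.Mrg.Omega.NO3S.OneQ.InstA

-- merged: Cfsg.Agent.Mrg.Omega.NO3S.OneQ.InstAny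
section

/-!
# NO-3S, `OneSz` (`q ≥ 4`, `n = 1`), case (N), every `D_x`: the instance of `Sg.Pre`, `PreI`

* `Co.IF` : `Ī` as an `F`-subspace; `Co.mem_IF`;
* **`Co.locW`** : `TIq.LocW F v0 A0 IF al0 K0`;
* **`Co.sgPre`** : `Sg.Pre`; **`Co.preIA`** : `PreI`.
-/

set_option autoImplicit false
set_option linter.unusedSectionVars false

namespace Cfsg.Agent.Omega.NO3S.OneQ

open Subgroup Cfsg.Agent.Omega.NO3S.PT Cfsg.Agent.Omega.NoFF.Basic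
open scoped Pointwise

universe u

variable {G : Type u} [Group G]

namespace Co

variable [Finite G] {F : Type*} [Field F] [CharP F 2] {S : Sylow 2 G} {B P V Z : Subgroup G} (h : Co F S B P V Z)

/-- `Ī` as an `F`-subspace -/
noncomputable def IF : Submodule F h.MF := Submodule.span F (h.Ib : Set h.MF)

/-- `rp = rep` on `C_G(Z)` -/
theorem rp_eq_rep' {c : G} (hc : c ∈ centralizer (Z : Set G)) (m : h.MF) :
    h.rp ⟨c, h.C_le_hat hc⟩ m = h.rep ⟨c, hc⟩ m := by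
  obtain ⟨w, rfl⟩ := h.fm_surj m
  rw [h.rep_fm]
  exact h.rp_fm _ _

section

variable [Finite F] (hN : NTr V Z) (hq : ∃ ζ : F, ζ ≠ 0 ∧ ζ ≠ 1)
include hN hq

theorem Ib_smul (c : F) {m : h.MF} (hm : m ∈ h.Ib) : c • m ∈ h.Ib := by
  obtain ⟨ζ, h0, h1⟩ := hq
  obtain ⟨u, hu, rfl⟩ := hm
  obtain ⟨u', hu', he⟩ := h.I_smul (h.w1_le_ee hN) (h.nn_N hN) h0 h1 hu c
  exact ⟨u', hu', Subtype.ext (funext fun k => he k k.2)⟩

theorem mem_IF {m : h.MF} : m ∈ h.IF ↔ m ∈ h.Ib := by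
  constructor
  · intro hm
    induction hm using Submodule.span_induction with
    | mem x hx => exact hx
    | zero => exact zero_mem _
    | add a b _ _ ha hb => exact add_mem ha hb
    | smul c a _ ha => exact h.Ib_smul hN hq c ha
  · exact fun hm => Submodule.subset_span hm

omit hq in
/-- `A` is normalised by the stabiliser of the point -/
theorem sA0_w {x a : h.HH} {c : F} (hx : x • h.v0 = c • h.v0) (ha : a ∈ h.A0) : x * a * x⁻¹ ∈ h.A0 := by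
  obtain ⟨g, hg, rfl⟩ := h.exists_rH x
  obtain ⟨b, hb, rfl⟩ := h.mem_A0.1 ha
  have hgN := h.norm_of_smul_N hN hg hx
  have hbC := h.one.W_le_C h.pY hb
  have hY' : Pnt V Z (PT.cj g h.Yp) := h.pY.conj hgN
  have hgZ : PT.cj g Z = Z := cj_eq_iff.2 (centralizer_le_normalizer _ hg)
  have hne : PT.cj g h.Yp ≠ Z := fun e => h.Yp_ne (cj_inj.1 (e.trans hgZ.symm))
  obtain ⟨k, hk, hkY⟩ := h.one.move h.one.self hY' h.pY hne h.Yp_ne
  have h1 : k * (g * b * g⁻¹) * k⁻¹ ∈ ws V h.Yp := by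
    have h2 := conj_mem_cj (g := g) hb
    rw [← ws_cj] at h2
    have h3 := conj_mem_cj (g := k) h2
    rwa [← ws_cj, hkY] at h3
  refine h.mem_A0.2 ⟨_, h1, ?_⟩
  have hkC := kx_le_cent hk
  have e1 := h.rH_mul (mul_mem hkC (mul_mem (mul_mem hg hbC) (inv_mem hg))) (inv_mem hkC)
  have e2 := h.rH_mul hkC (mul_mem (mul_mem hg hbC) (inv_mem hg))
  have e3 := h.rH_mul (mul_mem hg hbC) (inv_mem hg)
  have e4 := h.rH_mul hg hbC
  have e5 : h.rH (k * (g * b * g⁻¹) * k⁻¹) (h.one.W_le_C h.pY h1) = h.rH g hg * h.rH b hbC * (h.rH g hg)⁻¹ := by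
    rw [e1, e2, e3, e4, h.rH_inv hg, h.rH_inv hkC, h.rH_K hk, one_mul, inv_one, mul_one]
  exact e5.symm

omit hq in
theorem sK0_w {x t : h.HH} {c : F} (hx : x • h.v0 = c • h.v0) (ht : t ∈ h.K0) : x * t * x⁻¹ ∈ h.K0 := by
  obtain ⟨g, hg, rfl⟩ := h.exists_rH x
  obtain ⟨b, hb, rfl⟩ := h.mem_K0.1 ht
  have hgN := h.norm_of_smul_N hN hg hx
  have h1 : g * b * g⁻¹ ∈ yl V Z := (mem_normalizer_iff.1 (norm_yl V Z hgN) _).1 hb
  refine h.mem_K0.2 ⟨_, h1, ?_⟩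
  have e3 := h.rH_mul (mul_mem hg (h.yl_C hb)) (inv_mem hg)
  have e4 := h.rH_mul hg (h.yl_C hb)
  have e5 : h.rH (g * b * g⁻¹) (h.yl_C h1) = h.rH g hg * h.rH b (h.yl_C hb) * (h.rH g hg)⁻¹ := by
    rw [e3, e4, h.rH_inv hg]
  exact e5.symm

omit hq in
theorem sIb_w {x : h.HH} {c : F} {u : h.MF} (hx : x • h.v0 = c • h.v0) (hu : u ∈ h.Ib) : x • u ∈ h.Ib := by
  obtain ⟨g, hg, rfl⟩ := h.exists_rH x
  have hgN := h.norm_of_smul_N hN hg hx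
  obtain ⟨u, hu, rfl⟩ := hu
  have h1 : g * u * g⁻¹ ∈ IV V Z := (mem_normalizer_iff.1 (normalizer_le_IV V Z hgN) _).1 hu
  refine ⟨_, h1, ?_⟩
  rw [h.rH_smul]
  exact (h.rp_fm' (h.C_le_hat hg) (h.one.I_le_W' hu)).symm

omit hq in
/-- `α` and the stabiliser of the vector -/
theorem al0_conj_w {x : h.HH} (hx : x • h.v0 = h.v0) (m : h.MF) : h.al0 (x • m) = x * h.al0 m * x⁻¹ := by
  obtain ⟨g, hg, rfl⟩ := h.exists_rH x
  obtain ⟨k, hk, hkg⟩ := h.fix_v0_N hN hg hx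
  have hkC := kx_le_cent hk
  have hgk : k⁻¹ * g ∈ centralizer (Z : Set G) := mul_mem (inv_mem hkC) hg
  have e1 : h.rH g hg = h.rH (k⁻¹ * g) hgk := by
    have e2 := h.rH_mul (inv_mem hkC) hg
    rw [e2, h.rH_inv hkC, h.rH_K hk, inv_one, one_mul]
  rw [e1, eq_mul_inv_iff_mul_eq]
  refine h.HH_ext fun n => ?_
  have h2 := h.al_equi hN hkg m
  have h3 := LinearMap.congr_fun h2 n
  rw [mul_smul, mul_smul, h.al0_smul, h.al0_smul]
  exact h3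

/-- **the record `LocW`, every `D_x`** -/
theorem locW : TIq.LocW F h.v0 h.A0 h.IF h.al0 h.K0 where
  two := h.add_self
  ne0 := h.v0_ne
  gen := h.span_v0
  sA := h.sA0_w hN
  sI := by
    intro x c u hx hu
    rw [h.mem_IF hN hq] at hu ⊢
    exact h.sIb_w hN hx hu
  sq := by
    intro a ha
    obtain ⟨m, rfl⟩ := h.al0_surj hN ha
    refine h.HH_ext fun x => ?_
    rw [mul_smul, one_smul, h.al0_smul, h.al0_smul]
    exact LinearMap.congr_fun (h.al_sq hN m) x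
  ne := by
    by_contra hc
    push Not at hc
    obtain ⟨m, hm⟩ : ∃ m, m ∉ h.Eb := by
      by_contra hc'
      push Not at hc'
      apply h.one.ee_ne h.one.self
      refine le_antisymm ee_le fun w hw => ?_
      exact (h.fm_Eb_iff hN (w := ⟨w, hw⟩)).1 (hc' _)
    exact hm ((h.al0_one hN).1 (hc _ (h.al0_mem m)))
  self := (h.mem_IF hN hq).2 (h.lam_le_Ib (Submodule.mem_span_singleton_self _))
  comm := by
    intro a ha m
    obtain ⟨n, rfl⟩ := h.al0_surj hN ha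
    rw [h.al0_smul, ← h.sub_eq, h.mem_IF hN hq]
    exact h.al_sub_Ib hN n m
  fix := by
    intro x u hx hu
    obtain ⟨a, ha, rfl⟩ := h.mem_A0.1 hx
    obtain ⟨v, hv, rfl⟩ := (h.mem_IF hN hq).1 hu
    exact h.rp_W_I h.pY ha hv
  al_mem := h.al0_mem
  al_add := by
    intro m m'
    refine h.HH_ext fun x => ?_
    rw [mul_smul, h.al0_smul, h.al0_smul, h.al0_smul, h.al_add hN]
    rfl
  al_surj := h.al0_surj hN
  al_conj := h.al0_conj_w hN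
  al_ker := by
    intro m
    rw [h.al0_one hN]
    constructor
    · intro h1 x hx
      obtain ⟨a, ha, rfl⟩ := h.mem_A0.1 hx
      obtain ⟨c, hc⟩ := Submodule.mem_span_singleton.1 (h1 a ha)
      refine ⟨c, ?_⟩
      rw [hc, h.rH_smul]
      abel
    · intro h1 a ha
      obtain ⟨c, hc⟩ := h1 _ (h.mem_A0.2 ⟨a, ha, rfl⟩)
      refine Submodule.mem_span_singleton.2 ⟨c, ?_⟩
      rw [h.rH_smul] at hc
      rw [hc]
      abel
  sy := by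
    intro m m'
    obtain ⟨c, hc⟩ := Submodule.mem_span_singleton.1 (h.al_symm hN m m')
    refine ⟨c, ?_⟩
    rw [hc, h.al0_smul, h.al0_smul, h.sub_eq, h.sub_eq, h.sub_eq]
  phl := by
    intro c e x he
    have h1 := h.al_smul_Eb hN c x ((h.al0_one hN).1 he)
    rwa [h.sub_eq, h.sub_eq] at h1
  bl := by
    intro c m x
    obtain ⟨d, hd⟩ := Submodule.mem_span_singleton.1 (h.al_smul hN c x m)
    refine ⟨d, ?_⟩
    have e1 : h.al (c • x) m + m = h.al (c • x) m - m := (h.sub_eq _ _).symm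
    have e2 : h.al x m + m = h.al x m - m := (h.sub_eq _ _).symm
    rw [h.al0_smul, h.al0_smul, e1, e2]
    exact sub_eq_iff_eq_add'.1 hd.symm
  dual := by
    intro f hf
    obtain ⟨e, he, hee⟩ := h.dual_N h.pY h.Yp_ne (hN _ h.pY h.Yp_ne) f fun w hw =>
      hf _ ((h.al0_one hN).2 (h.fm_Eb (w := ⟨w, ee_le hw⟩) hw))
    have hx : h.sw * e * h.sw⁻¹ ∈ ee V Z Z := by
      have h1 : h.sw * e * h.sw⁻¹ ∈ cj h.sw (ee V Z h.Yp) := conj_mem_cj he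
      rwa [cj_ee h.sw_N, h.cj_sw'] at h1
    refine ⟨h.fm ⟨_, ee_le hx⟩, (h.al0_one hN).2 (h.fm_Eb hx), fun m => ?_⟩
    obtain ⟨w, rfl⟩ := h.fm_surj m
    rw [h.al0_smul, h.al_fm hN, ← h.sub_eq, h.ag_ee hx w, hee]
    congr 2
    group
  faith := fun x hx => h.HH_ext fun m => by rw [hx, one_smul]
  sK := h.sK0_w hN
  A_le_Kt := by
    intro x hx
    obtain ⟨a, ha, rfl⟩ := h.mem_A0.1 hx
    exact h.mem_K0.2 ⟨a, h.W_le_yl h.pY ha, rfl⟩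
  Kt_fix := by
    intro x hx
    obtain ⟨t, ht, rfl⟩ := h.mem_K0.1 hx
    exact h.rp_cV (yl_le_cent V Z ht)
  Kt_A := by
    intro x y hx hy
    obtain ⟨t, ht, rfl⟩ := h.mem_K0.1 hx
    obtain ⟨a, ha, rfl⟩ := h.mem_A0.1 hy
    refine h.HH_ext fun m => ?_
    exact LinearMap.congr_fun (h.yl_A ht ha) m
  Kt_hom := by
    intro m hm hnp
    obtain ⟨u, hu, rfl⟩ := (h.mem_IF hN hq).1 hm
    have huV : u ∉ V := by
      intro huV
      obtain ⟨c, hc⟩ := Submodule.mem_span_singleton.1 ((h.fm_mem_lam_I hu).2 huV)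
      exact hnp c hc.symm
    obtain ⟨k, hk, hku⟩ := h.exists_yl hu huV 1
    refine ⟨h.rH k (h.yl_C hk), h.mem_K0.2 ⟨k, hk, rfl⟩, ?_⟩
    have h2 : h.rH k (h.yl_C hk) • h.fm ⟨u, h.one.I_le_W' hu⟩ = _ := h.rp_fm' (h.C_le_hat (h.yl_C hk)) (h.one.I_le_W' hu)
    rw [h2, add_comm]
    show _ = h.fm ⟨h.e 0 1, h.W_V 0 1⟩ + _
    rw [← h.fm_mul]
    congr 1
    exact Subtype.ext hku

/-- **the record `Sg.Pre`, every `D_x`** -/
theorem sgPre : Sg.Pre F (TIq.LL F h.HH h.v0) (TIq.AA F h.v0 h.A0) (TIq.II F (H := h.HH) h.v0 h.IF)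
    (TIq.AL F h.v0 h.al0) := (h.locW hN hq).toSg

/-- **the record `PreI`, every `D_x`** -/
theorem preIA : h.PreI h.ru.rangeRestrict (TIq.LL F h.HH h.v0) (TIq.AA F h.v0 h.A0)
    (TIq.II F (H := h.HH) h.v0 h.IF) (TIq.AL F h.v0 h.al0) (TIq.AA F h.v0 h.K0) where
  pre := (h.locW hN hq).toPre
  act := fun ⟨g, hg⟩ m => h.rp_eq_rep' hg m
  v0_mem := TIq.Loc.self_mem
  smul_mem := fun g l hl => TIq.Loc.smul_mem _ hl
  orbit := by
    rintro l ⟨x, c, hc, rfl⟩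
    obtain ⟨g, hg, rfl⟩ := h.exists_rH x
    exact ⟨⟨g, hg⟩, c, hc, rfl⟩
  A_zero := by
    intro x
    rw [(h.locW hN hq).mem_AA (x := 1) one_ne_zero (by rw [one_smul, one_smul]), inv_one, one_mul, mul_one,
      h.mem_A0]
    exact ⟨fun ⟨a, ha, e⟩ => ⟨a, ha, e.symm⟩, fun ⟨a, ha, e⟩ => ⟨a, ha, e.symm⟩⟩

end

end Co

end Cfsg.Agent.Omega.NO3S.OneQ

end

-- merged: Cfsg.Agent.Mrg.Omega.NO3S.OneQ.Sg.LocB
section

section


/-!
# NO-3S, `OneSz` (`q ≥ 4`, `n = 1`), case (N), `k ≥ 2`: from `v0` to all line vectors, the record `Sg.SgB`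

* `Loc.at_J`, `Loc.at_bs` : J and Baer-Suzuki at every `l ∈ LL F H v0`;
* **`Loc.toSgB`** : the record `Sg.SgB`.
-/

set_option autoImplicit false
set_option linter.unusedSectionVars false

namespace Cfsg.Agent.Omega.NO3S.OneQ.TIq.Loc

variable {F M H : Type*} [Field F] [AddCommGroup M] [Module F M] [Group H] [DistribMulAction H M]
  [SMulCommClass H F M] {v0 : M} {A0 : Subgroup H} {I0 : Submodule F M} {al0 : M → H}
  (D : Loc F v0 A0 I0 al0)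
include D

theorem al0_unit {c : F} (hc : c ≠ 0) {m : M} : al0 (c • m) = 1 ↔ al0 m = 1 := by
  rw [D.al_ker, D.al_ker]
  constructor
  · intro h a ha
    obtain ⟨d, hd⟩ := h a ha
    refine ⟨c⁻¹ * d, ?_⟩
    rw [lin] at hd
    have h1 := congrArg (fun w => c⁻¹ • w) hd
    simp only [smul_add, smul_smul, inv_mul_cancel₀ hc, one_smul] at h1
    exact h1
  · intro h a ha
    obtain ⟨d, hd⟩ := h a ha
    exact ⟨c * d, by rw [lin, hd, smul_add, smul_smul]⟩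

/-- **J at all line vectors** -/
theorem at_J (J0 : ∀ {x a : H}, al0 (x • v0) ≠ 1 → al0 (x⁻¹ • v0) ≠ 1 → a ∈ A0 →
      al0 (x⁻¹ • (a • x • v0 + x • v0)) ≠ 1 → ∃ j : M, x⁻¹ • j ∈ I0 ∧ al0 j = 1 ∧ a • j = j ∧ ∃ b ∈ A0, b • j ≠ j)
    {l m : M} {a : H} (hl : l ∈ LL F H v0) (hm : m ∈ LL F H v0) (h1 : AL F v0 al0 l m ≠ 1)
    (h2 : AL F v0 al0 m l ≠ 1) (ha : a ∈ AA F v0 A0 l) (h3 : AL F v0 al0 m (a • m + m) ≠ 1) :
    ∃ j ∈ II F (H := H) v0 I0 m, AL F v0 al0 l j = 1 ∧ a • j = j ∧ ∃ b ∈ AA F v0 A0 l, b • j ≠ j := by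
  obtain ⟨c, hc, hlc⟩ := rr_spec F H hl
  obtain ⟨d, hd, hmd⟩ := rr_spec F H hm
  rw [Ne, D.at_al_one] at h1 h2 h3
  rw [D.mem_AA_rr hl] at ha
  obtain ⟨g, hg⟩ : ∃ g, g = rr F H v0 l := ⟨_, rfl⟩
  obtain ⟨k, hk⟩ : ∃ k, k = rr F H v0 m := ⟨_, rfl⟩
  rw [← hg] at hlc h1 ha
  rw [← hk] at hmd h2 h3
  obtain ⟨x, hx⟩ : ∃ x, x = g⁻¹ * k := ⟨_, rfl⟩
  have hxi : x⁻¹ = k⁻¹ * g := by rw [hx]; group
  have e1 : g⁻¹ • m = d • x • v0 := by rw [hmd, lin, hx, mul_smul]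
  have e2 : k⁻¹ • l = c • x⁻¹ • v0 := by rw [hlc, lin, hxi, mul_smul]
  rw [e1, D.al0_unit hd] at h1
  rw [e2, D.al0_unit hc] at h2
  have e3 : k⁻¹ • (a • m + m) = d • x⁻¹ • ((g⁻¹ * a * g) • x • v0 + x • v0) := by
    have e4 : a • k • v0 = g • (g⁻¹ * a * g) • x • v0 := by
      rw [hx]
      simp only [smul_smul]
      congr 1
      group
    have e5 : k • v0 = g • x • v0 := by
      rw [hx, smul_smul, mul_inv_cancel_left]
    rw [hmd, lin, e4, e5, ← smul_add, ← smul_add, lin, smul_smul k⁻¹ g, ← hxi]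
  rw [e3, D.al0_unit hd] at h3
  obtain ⟨j, hj, hj1, hj2, b, hb, hbj⟩ := J0 h1 h2 ha h3
  refine ⟨g • j, ?_, ?_, ?_, g * b * g⁻¹, ?_, ?_⟩
  · rw [D.mem_II hd hmd, smul_smul, ← hxi]
    exact hj
  · rw [D.at_al_one, ← hg, inv_smul_smul]
    exact hj1
  · have e : a • g • j = g • (g⁻¹ * a * g) • j := by
      simp only [smul_smul]
      congr 1
      group
    rw [e, hj2]
  · rw [D.mem_AA_rr hl, ← hg]
    have e : g⁻¹ * (g * b * g⁻¹) * g = b := by group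
    rw [e]
    exact hb
  · intro e
    apply hbj
    have e' : (g * b * g⁻¹) • g • j = g • b • j := by
      simp only [smul_smul]
      congr 1
      group
    rw [e'] at e
    exact smul_left_cancel g e

/-- **Baer-Suzuki at all line vectors** -/
theorem at_bs (bs0 : ∀ {a : H}, a ∈ A0 → a ≠ 1 → ∃ o : H, o ≠ 1 ∧ Odd (orderOf o) ∧ a * o * a⁻¹ = o⁻¹) {l : M}
    {a : H} (hl : l ∈ LL F H v0) (ha : a ∈ AA F v0 A0 l) (ha1 : a ≠ 1) :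
    ∃ o : H, o ≠ 1 ∧ Odd (orderOf o) ∧ a * o * a⁻¹ = o⁻¹ := by
  rw [D.mem_AA_rr hl] at ha
  obtain ⟨g, hg⟩ : ∃ g, g = rr F H v0 l := ⟨_, rfl⟩
  rw [← hg] at ha
  obtain ⟨o, ho1, ho, hoa⟩ := bs0 ha (fun e => ha1 (by
    calc a = g * (g⁻¹ * a * g) * g⁻¹ := by group
      _ = 1 := by rw [e]; group))
  refine ⟨g * o * g⁻¹, fun e => ho1 (conj_eq_one_iff.1 e), ?_, ?_⟩
  · have : orderOf (g * o * g⁻¹) = orderOf o := by
      have := (MulAut.conj g).orderOf_eq o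
      rwa [MulAut.conj_apply] at this
    rw [this]
    exact ho
  · have h1 : g * (g⁻¹ * a * g * o * (g⁻¹ * a * g)⁻¹) * g⁻¹ = a * (g * o * g⁻¹) * a⁻¹ := by group
    rw [← h1, hoa]
    group

/-- **the record `Sg.SgB`** -/
theorem toSgB (P : Sg.Pre F (LL F H v0) (AA F v0 A0) (II F (H := H) v0 I0) (AL F v0 al0))
    (J0 : ∀ {x a : H}, al0 (x • v0) ≠ 1 → al0 (x⁻¹ • v0) ≠ 1 → a ∈ A0 →
      al0 (x⁻¹ • (a • x • v0 + x • v0)) ≠ 1 → ∃ j : M, x⁻¹ • j ∈ I0 ∧ al0 j = 1 ∧ a • j = j ∧ ∃ b ∈ A0, b • j ≠ j)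
    (bs0 : ∀ {a : H}, a ∈ A0 → a ≠ 1 → ∃ o : H, o ≠ 1 ∧ Odd (orderOf o) ∧ a * o * a⁻¹ = o⁻¹) :
    Sg.SgB F (LL F H v0) (AA F v0 A0) (II F (H := H) v0 I0) (AL F v0 al0) :=
  { P with
    J := D.at_J J0
    bs := D.at_bs bs0 }

end Cfsg.Agent.Omega.NO3S.OneQ.TIq.Loc

end

section


/-!
# NO-3S, `OneSz` (`q ≥ 4`, `n = 1`), case (N), `k ≥ 2`: TI over `SgB` (bb OMEGA #20317 (H))

* **`SgB.ti`** : `SgB` + (G) (`T.Cop`) + (F) (`alt`, `ind`) + LEMMA PLANE (`fold`) ⟹ TI.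
-/

set_option autoImplicit false
set_option linter.unusedSectionVars false

namespace Cfsg.Agent.Omega.NO3S.OneQ.Sg

open TIq (NP)

variable {F M H : Type*} [Field F] [AddCommGroup M] [Module F M] [Group H] [DistribMulAction H M] {L : Set M}
    {A : M → Subgroup H} {I : M → Submodule F M} {al : M → M → H}

theorem Pre.toT (G : Pre F L A I al) : T.Pre F L A I al where
  two := G.two
  lin := G.lin
  zero := G.zero
  smul := G.smul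
  fsm := G.fsm
  A_sm := G.A_sm
  I_sm := G.I_sm
  trans := G.trans
  A_conj := G.A_conj
  I_conj := G.I_conj
  sq := G.sq
  self := G.self
  comm := G.comm
  fix := G.fix
  plane := G.plane
  al_mem := G.al_mem
  al_add := G.al_add
  al_surj := G.al_surj
  al_conj := G.al_conj
  al_ker := G.al_ker
  sy := G.sy
  bl := G.bl
  dual := G.dual

theorem Pre.hyp_toT [Finite H] (G : Pre F L A I al) {l w : M} (hl : l ∈ L) (hw : w ∈ L) (h : Hyp A al l w) :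
    T.Hyp F L A l w where
  mem := hw
  back := fun a' ha' => (G.al_ker hw l).1 h.al2 a' ha'
  move := h.mv2
  tv := fun a ha haw b hb hbw => by
    obtain ⟨c', hc', hcl, hcc⟩ := G.hyp_surj hl hw h ha haw hb hbw
    refine ⟨c', hc', hcl, ?_⟩
    rw [G.A_comm hl ha hb, ← hcc, inv_mul_cancel_right]
  cent := fun b hb hbw c' hc' hcl => G.hyp_comm hl hw h hb hbw hc' hcl
  inj := fun b hb _ hb1 a' ha' hal' hc => hb1 (G.hyp_free hw hl h.symm ha' hal' hb hc.symm)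
  inj' := fun b' hb' _ hb1 a ha haw hc => hb1 (G.hyp_free hl hw h ha haw hb' hc.symm)

/-- **(H)** -/
theorem SgB.ti [Finite H] [Finite F] [FiniteDimensional F M] (G : SgB F L A I al) (C : T.Cop F L A I al)
    (alt : ∀ {l : M}, l ∈ L → ∀ x : M, ∃ c : F, al l x • x + x = c • l)
    (ind : ∀ {l : M}, l ∈ L → ∀ i j : M, T.Pre.Ind F al l i j → ∀ d : F, al l j • i + i ≠ d • l)
    (fold : ∀ {l m : M}, l ∈ L → m ∈ L → m ∈ I l → NP F l m → (∀ a ∈ A m, a ∈ A l) →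
      (∀ y, ∃ u v, al l u = 1 ∧ al m v = 1 ∧ y = u + v) → False)
    {l m : M} {a : H} (hl : l ∈ L) (hm : m ∈ L) (ha : a ∈ A l) (ham : a ∈ A m) (ha1 : a ≠ 1) :
    ∃ c : F, m = c • l :=
  G.toPre.toT.ti C alt ind
    (fun {l} hl θ hθ hθ' => by
      obtain ⟨w, hw, h, hf⟩ := G.axis hl hθ' hθ
      refine ⟨w, G.toPre.hyp_toT hl hw h, fun y => ?_⟩
      rw [hf y]
      constructor
      · intro h1
        exact (smul_eq_zero.1 (add_eq_left.1 h1)).resolve_right (G.ne_zero hl)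
      · intro h1
        rw [h1, zero_smul, add_zero])
    fold hl hm ha ham ha1

end Cfsg.Agent.Omega.NO3S.OneQ.Sg

end

end

-- merged: Cfsg.Agent.Mrg.Omega.NO3S.OneQ.Sg.Alt
section

/-!
# NO-3S, `OneSz` (`q ≥ 4`, `n = 1`), case (N), `k ≥ 2`: `β` is alternating (bb OMEGA #20317 (F), pure part)

* `SgB.inv_sub` : a subspace `≥ Ebar_l` invariant under the transvections of `A_l` which fix `P` is `P` or `M`;
* **`SgB.alt`** : `β_l` is alternating;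
* **`SgB.ind`** : `β_l(b, c) ≠ 0` for `F`-independent `b, c ∈ A_l`.
-/

set_option autoImplicit false
set_option linter.unusedSectionVars false

namespace Cfsg.Agent.Omega.NO3S.OneQ.Sg

open TIq (NP)

variable {F M H : Type*} [Field F] [AddCommGroup M] [Module F M] [Group H] [DistribMulAction H M] {L : Set M}
    {A : M → Subgroup H} {I : M → Submodule F M} {al : M → M → H}

namespace Pre

variable (G : Pre F L A I al)
include G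

theorem eq_add (a : H) (m : M) : a • m = m + (a • m + m) := by
  rw [add_comm (a • m) m, G.two_left]

/-- `[m, α(x) α(y)] = [m, α(x)] [m, α(y)]` -/
theorem br_add {l : M} (hl : l ∈ L) (m x y : M) :
    al l (x + y) • m + m = (al l x • m + m) + (al l y • m + m) := by
  obtain ⟨v, hv⟩ : ∃ v, v = al l y • m + m := ⟨_, rfl⟩
  have h1 : al l x • v = v := hv ▸ G.fix hl (G.al_mem hl x) (G.comm hl (G.al_mem hl y) m)
  have h2 : al l y • m = m + v := by rw [hv]; exact G.eq_add _ m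
  rw [← hv, G.al_add hl, mul_smul, h2, smul_add, h1]
  abel

/-- `[m, α(x)]` mod `λ_l` is `F`-linear in `m` -/
theorem br_left (m m' x l : M) : al l x • (m + m') + (m + m') = (al l x • m + m) + (al l x • m' + m') := by
  rw [smul_add]; abel

/-- `{x : β(x, x) = 0}` -/
def Kq {l : M} (hl : l ∈ L) : Submodule F M where
  carrier := {x | ∃ c : F, al l x • x + x = c • l}
  add_mem' := by
    rintro x y ⟨c, hc⟩ ⟨d, hd⟩
    obtain ⟨e, he⟩ := G.sy hl x y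
    refine ⟨c + e + d, ?_⟩
    rw [G.br_add hl, G.br_left, G.br_left, hc, hd, add_smul, add_smul, ← he]
    abel
  zero_mem' := ⟨0, by rw [smul_zero, add_zero, zero_smul]⟩
  smul_mem' := by
    rintro c x ⟨d, hd⟩
    obtain ⟨e, he⟩ := G.bl hl c x x
    refine ⟨c * (c * d + e), ?_⟩
    rw [G.lin, ← smul_add, he, hd, smul_smul, ← add_smul, smul_smul]

theorem mem_Kq {l : M} (hl : l ∈ L) {x : M} : x ∈ G.Kq hl ↔ ∃ c : F, al l x • x + x = c • l := Iff.rfl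

/-- `{y : β(x, y) = 0}` -/
def Rx {l : M} (hl : l ∈ L) (x : M) : Submodule F M where
  carrier := {y | ∃ c : F, al l y • x + x = c • l}
  add_mem' := by
    rintro y z ⟨c, hc⟩ ⟨d, hd⟩
    exact ⟨c + d, by rw [G.br_add hl, hc, hd, add_smul]⟩
  zero_mem' := ⟨0, by rw [G.al_zero hl, one_smul, G.two, zero_smul]⟩
  smul_mem' := by
    rintro c y ⟨d, hd⟩
    obtain ⟨e, he⟩ := G.bl hl c x y
    exact ⟨c * d + e, by rw [he, hd, smul_smul, ← add_smul]⟩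

theorem mem_Rx {l : M} (hl : l ∈ L) {x y : M} : y ∈ G.Rx hl x ↔ ∃ c : F, al l y • x + x = c • l := Iff.rfl

theorem E_le_Kq {l : M} (hl : l ∈ L) : G.E hl ≤ G.Kq hl := fun _ he =>
  ⟨0, by rw [(G.mem_E hl).1 he, one_smul, G.two, zero_smul]⟩

theorem E_le_Rx {l : M} (hl : l ∈ L) (x : M) : G.E hl ≤ G.Rx hl x := fun _ he =>
  ⟨0, by rw [(G.mem_E hl).1 he, one_smul, G.two, zero_smul]⟩

theorem Kq_inv {l : M} (hl : l ∈ L) {b : H} (hb : b • l = l) {y : M} (hy : y ∈ G.Kq hl) : b • y ∈ G.Kq hl := by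
  obtain ⟨c, hc⟩ := hy
  refine ⟨c, ?_⟩
  have h1 : al l (b • y) • (b • y) + b • y = b • (al l y • y + y) := by
    rw [G.al_conj hl hb, smul_add, ← mul_smul, ← mul_smul]
    congr 2
    group
  rw [h1, hc, G.lin, hb]

theorem Rx_inv {l : M} (hl : l ∈ L) {b : H} (hb : b • l = l) {x y : M} (hx : al l (b • x) = al l x)
    (hy : y ∈ G.Rx hl x) : b • y ∈ G.Rx hl x := by
  obtain ⟨c, hc⟩ := hy
  have h1 : al l (b • y) • (b • x) + b • x = b • (al l y • x + x) := by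
    rw [G.al_conj hl hb, smul_add, ← mul_smul, ← mul_smul]
    congr 2
    group
  have h2 : al l (b • x + x) = 1 := (G.al_congr hl).1 hx
  obtain ⟨d, hd⟩ := G.phi_ex hl h2 (b • y)
  refine ⟨c + d, ?_⟩
  have h3 : x = b • x + (b • x + x) := by rw [G.two_left]
  calc al l (b • y) • x + x = al l (b • y) • (b • x + (b • x + x)) + (b • x + (b • x + x)) := by rw [← h3]
    _ = (al l (b • y) • (b • x) + b • x) + (al l (b • y) • (b • x + x) + (b • x + x)) := G.br_left _ _ _ _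
    _ = (c + d) • l := by rw [h1, hc, hd, G.lin, hb, add_smul]

end Pre

namespace SgB

variable [Finite H] [FiniteDimensional F M] (G : SgB F L A I al)
include G

/-- a subspace `≥ Ebar_l`, invariant under the transvections which fix `P`, is `P` or `M` -/
theorem inv_sub {l : M} (hl : l ∈ L) {P N : Submodule F M} (hE : G.E hl ≤ P) (hPN : P ≤ N)
    (hN : ∀ b : H, b • l = l → (∀ x ∈ P, al l (b • x) = al l x) → ∀ y ∈ N, b • y ∈ N) {j : M} (hj : j ∈ N)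
    (hjP : j ∉ P) (y : M) : y ∈ N := by
  by_cases hy : y ∈ P ⊔ Submodule.span F {j}
  · refine (sup_le hPN ?_) hy
    rw [Submodule.span_singleton_le_iff_mem]
    exact hj
  obtain ⟨f₁, hf₁, hf₁'⟩ := Submodule.exists_le_ker_of_notMem hy
  obtain ⟨f₂, hf₂, hf₂'⟩ := Submodule.exists_le_ker_of_notMem hjP
  have k₁ : ∀ x ∈ P, f₁ x = 0 := fun x hx => hf₁' (Submodule.mem_sup_left hx)
  have k₁j : f₁ j = 0 := hf₁' (Submodule.mem_sup_right (Submodule.mem_span_singleton_self j))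
  have k₂ : ∀ x ∈ P, f₂ x = 0 := fun x hx => hf₂' hx
  obtain ⟨f, hf⟩ : ∃ f : M →ₗ[F] F, f = (f₂ j)⁻¹ • f₂ + ((1 - (f₂ j)⁻¹ * f₂ y) * (f₁ y)⁻¹) • f₁ := ⟨_, rfl⟩
  have hfP : ∀ x ∈ P, f x = 0 := fun x hx => by
    rw [hf]; simp [k₁ x hx, k₂ x hx]
  have hfj : f j = 1 := by
    rw [hf]; simp [k₁j, inv_mul_cancel₀ hf₂]
  have hfy : f y = 1 := by
    rw [hf, LinearMap.add_apply, LinearMap.smul_apply, LinearMap.smul_apply, smul_eq_mul, smul_eq_mul, mul_assoc,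
      inv_mul_cancel₀ hf₁, mul_one]
    ring
  have hd : f (y + j) = 0 := by rw [map_add, hfj, hfy, G.two_F hl]
  obtain ⟨b, hb, hb'⟩ := G.transv hl (fun e he => hfP e (hE he)) hd
  have h1 : b • j ∈ N := hN b hb (fun x hx => by rw [hb', hfP x hx, zero_smul, add_zero]) j hj
  have h2 : al l (b • j) = al l y := by
    rw [hb', hfj, one_smul]
    congr 1
    rw [add_comm y j, G.two_left]
  have h3 : b • j + y ∈ N := hPN (hE ((G.al_congr hl).1 h2))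
  have h4 := N.add_mem h1 h3
  rwa [G.two_left] at h4

/-- **`β` is alternating** -/
theorem alt [Finite F]
    (K : ∀ {l m x : M} (f : M →ₗ[F] F), l ∈ L → m ∈ L → al l m ≠ 1 → al m l ≠ 1 → (∀ e, al m e = 1 → f e = 0) →
      f l ≠ 0 → f (al l x • m + m) = 0 → (∀ c : F, al l x • x + x ≠ c • l) → ∃ c : F, al l m • m + m = c • l)
    (sp : ∀ {l : M}, l ∈ L → ∃ m ∈ L, al l m ≠ 1 ∧ al m l ≠ 1)
    (big : ∀ {l : M}, l ∈ L → ∃ x y : M, T.Pre.Ind F al l x y) {l : M} (hl : l ∈ L) (x : M) :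
    ∃ c : F, al l x • x + x = c • l := by
  by_cases hK : ∃ j ∈ G.Kq hl, al l j ≠ 1
  · obtain ⟨j, hj, hj1⟩ := hK
    exact G.inv_sub hl le_rfl (G.E_le_Kq hl) (fun b hb _ y hy => G.Kq_inv hl hb hy) hj hj1 x
  exfalso
  push Not at hK
  obtain ⟨m, hm, hlm, hml⟩ := sp hl
  -- find `x`
  obtain ⟨z, hz1, hz⟩ : ∃ z, al l z ≠ 1 ∧ l ∉ G.E hm ⊔ Submodule.span F {al l z • m + m} := by
    by_contra hcon
    push Not at hcon
    obtain ⟨x₁, x₂, hi⟩ := big hl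
    have key : ∀ z, al l z ≠ 1 → ∃ σ : F, σ ≠ 0 ∧ al l z • m + m + σ • l ∈ G.E hm := by
      intro z hz
      obtain ⟨e, he, w, hw, hew⟩ := Submodule.mem_sup.1 (hcon z hz)
      obtain ⟨ρ, rfl⟩ := Submodule.mem_span_singleton.1 hw
      have hρ : ρ ≠ 0 := by
        rintro rfl
        rw [zero_smul, add_zero] at hew
        exact hml (hew ▸ he)
      refine ⟨ρ⁻¹, inv_ne_zero hρ, ?_⟩
      have h0 : ρ⁻¹ • l = al l z • m + m + ρ⁻¹ • e := by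
        have h0 := congrArg (fun t => ρ⁻¹ • t) hew
        rw [smul_add, smul_smul, inv_mul_cancel₀ hρ, one_smul] at h0
        rw [← h0, add_comm]
      have h1 : al l z • m + m + ρ⁻¹ • l = ρ⁻¹ • e := by
        rw [h0, G.two_left]
      rw [h1]
      exact (G.E hm).smul_mem _ he
    have key' : ∀ z, ∃ σ : F, (al l z ≠ 1 → σ ≠ 0) ∧ al l z • m + m + σ • l ∈ G.E hm := by
      intro z
      by_cases hz : al l z = 1
      · refine ⟨0, fun h => absurd hz h, ?_⟩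
        rw [hz, one_smul, G.two, zero_smul, add_zero]
        exact (G.E hm).zero_mem
      · obtain ⟨σ, h1, h2⟩ := key z hz
        exact ⟨σ, fun _ => h1, h2⟩
    choose σ hσ hσ' using key'
    have hinj : Function.Injective (fun p : F × F => σ (p.1 • x₁ + p.2 • x₂)) := by
      rintro ⟨s, t⟩ ⟨s', t'⟩ h
      change σ (s • x₁ + t • x₂) = σ (s' • x₁ + t' • x₂) at h
      by_contra hne
      have h1 : (s • x₁ + t • x₂) + (s' • x₁ + t' • x₂) = (s + s') • x₁ + (t + t') • x₂ := by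
        rw [add_smul, add_smul]; abel
      have h2 : al l ((s + s') • x₁ + (t + t') • x₂) ≠ 1 := by
        intro h3
        obtain ⟨h4, h5⟩ := hi _ _ h3
        exact hne (Prod.ext (G.eq_of_add_F hl h4) (G.eq_of_add_F hl h5))
      have h3 := (G.E hm).add_mem (hσ' (s • x₁ + t • x₂)) (hσ' (s' • x₁ + t' • x₂))
      have h4 : al l (s • x₁ + t • x₂) • m + m + σ (s • x₁ + t • x₂) • l +
          (al l (s' • x₁ + t' • x₂) • m + m + σ (s' • x₁ + t' • x₂) • l) =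
          al l ((s + s') • x₁ + (t + t') • x₂) • m + m := by
        rw [← h1, G.br_add hl m (s • x₁ + t • x₂) (s' • x₁ + t' • x₂), h]
        have := G.two (σ (s' • x₁ + t' • x₂) • l)
        calc al l (s • x₁ + t • x₂) • m + m + σ (s' • x₁ + t' • x₂) • l +
              (al l (s' • x₁ + t' • x₂) • m + m + σ (s' • x₁ + t' • x₂) • l) =
              (al l (s • x₁ + t • x₂) • m + m) + (al l (s' • x₁ + t' • x₂) • m + m) +
                (σ (s' • x₁ + t' • x₂) • l + σ (s' • x₁ + t' • x₂) • l) := by abel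
          _ = _ := by rw [this, add_zero]
      rw [h4] at h3
      have h5 := (G.E hm).add_mem h3 (hσ' ((s + s') • x₁ + (t + t') • x₂))
      rw [G.two_left] at h5
      have h6 := (G.E hm).smul_mem (σ ((s + s') • x₁ + (t + t') • x₂))⁻¹ h5
      rw [smul_smul, inv_mul_cancel₀ (hσ _ h2), one_smul] at h6
      exact hml h6
    have h1 := Nat.card_le_card_of_injective _ hinj
    rw [Nat.card_prod] at h1
    have h2 : 1 < Nat.card F := Finite.one_lt_card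
    nlinarith
  obtain ⟨f, hf, hf'⟩ := Submodule.exists_le_ker_of_notMem hz
  obtain ⟨c, hc⟩ := K f hl hm hlm hml (fun e he => hf' (Submodule.mem_sup_left he)) hf
    (hf' (Submodule.mem_sup_right (Submodule.mem_span_singleton_self _))) (fun c hc => hz1 (hK z ⟨c, hc⟩))
  exact hlm (hK m ⟨c, hc⟩)

/-- **`β(b, c) ≠ 0` for `F`-independent `b`, `c`** -/
theorem ind (alt : ∀ {l : M}, l ∈ L → ∀ x : M, ∃ c : F, al l x • x + x = c • l) {l : M} (hl : l ∈ L) {i j : M}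
    (hi : T.Pre.Ind F al l i j) (d : F) : al l j • i + i ≠ d • l := by
  intro h
  have hP : ∀ y, y ∈ G.Rx hl i := by
    refine G.inv_sub hl (P := G.E hl ⊔ Submodule.span F {i}) le_sup_left
      (sup_le (G.E_le_Rx hl i) ?_) (fun b hb hb' y hy => G.Rx_inv hl hb (hb' i (Submodule.mem_sup_right
        (Submodule.mem_span_singleton_self i))) hy) ⟨d, h⟩ ?_
    · rw [Submodule.span_singleton_le_iff_mem]
      exact alt hl i
    · intro hj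
      obtain ⟨e, he, w, hw, hew⟩ := Submodule.mem_sup.1 hj
      obtain ⟨c, rfl⟩ := Submodule.mem_span_singleton.1 hw
      have h1 : al l (c • i + (1 : F) • j) = 1 := by
        rw [one_smul, ← hew, add_comm e, G.two_left]
        exact he
      exact one_ne_zero (hi _ _ h1).2
  have h1 : al l i = 1 := by
    rw [G.al_ker hl]
    intro a ha
    obtain ⟨y, rfl⟩ := G.al_surj hl ha
    obtain ⟨c, hc⟩ := hP y
    exact ⟨c, by rw [G.toPre.eq_add (al l y) i, hc]⟩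
  have := (hi 1 0 (by rw [one_smul, zero_smul, add_zero]; exact h1)).1
  exact one_ne_zero this

/-- **TI for `k ≥ 2`** -/
theorem ti_main [Finite F] (C : T.Cop F L A I al)
    (K : ∀ {l m x : M} (f : M →ₗ[F] F), l ∈ L → m ∈ L → al l m ≠ 1 → al m l ≠ 1 → (∀ e, al m e = 1 → f e = 0) →
      f l ≠ 0 → f (al l x • m + m) = 0 → (∀ c : F, al l x • x + x ≠ c • l) → ∃ c : F, al l m • m + m = c • l)
    (sp : ∀ {l : M}, l ∈ L → ∃ m ∈ L, al l m ≠ 1 ∧ al m l ≠ 1)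
    (big : ∀ {l : M}, l ∈ L → ∃ x y : M, T.Pre.Ind F al l x y)
    (fold : ∀ {l m : M}, l ∈ L → m ∈ L → m ∈ I l → NP F l m → (∀ a ∈ A m, a ∈ A l) →
      (∀ y, ∃ u v, al l u = 1 ∧ al m v = 1 ∧ y = u + v) → False)
    {l m : M} {a : H} (hl : l ∈ L) (hm : m ∈ L) (ha : a ∈ A l) (ham : a ∈ A m) (ha1 : a ≠ 1) :
    ∃ c : F, m = c • l :=
  G.ti C (G.alt K sp big) (fun hl _ _ hi d => G.ind (G.alt K sp big) hl hi d) fold hl hm ha ham ha1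

end SgB

end Cfsg.Agent.Omega.NO3S.OneQ.Sg

end

-- merged: Cfsg.Agent.Mrg.Omega.NO3S.OneQ.Sg.Jay
section

section


/-!
# NO-3S, `OneSz` (`q ≥ 4`, `n = 1`), case (N), `k ≥ 2`: J at the group level (bb OMEGA #20317 (C), #20578 (3))

`V`, `M` lines on `Z`, `Y ≠ Z` a point of `V`, `Q ≠ Z` a point of `M`.

* `One.jay_core` : `e ∈ E_Q(M)` moves `Y`, `w ∈ W_Y`, `e_y ∈ E_Y(V)`, `[w, e] e_y` centralises `Q`; then
  `j := [[w, e] e_y, e] ∈ I_M` acts on `W_Y` as `e_y^e`;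
* **`Co.jay`** : for an S-pair, `w ∈ W_Y`, `v ∈ Q`, `[w, v] ∉ E_Z(M)`, `dim MF / Ē ≥ 2` there is `j ∈ I_M ∩ E_Z(V)`
  with `[j, w] = 1` and `[j, W_Y] ≠ 1`.
-/

set_option autoImplicit false
set_option linter.unusedSectionVars false

namespace Cfsg.Agent.Omega.NO3S.OneQ

open Subgroup Cfsg.Agent.Omega.NO3S.PT Cfsg.Agent.Omega.NoFF.Basic
open scoped Pointwise

variable {G : Type*} [Group G]

namespace One

variable [Finite G] {S : Sylow 2 G} {B P V Z : Subgroup G} (h : One S B P V Z)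
include h

/-- two elements outside `E_X(L)` are moved by one `e ∈ E_Y(L)` -/
theorem exists_mov2 (hN : w1 V Z Z ≤ ee V Z Z) {L X Y : Subgroup G} (hL : IsCj V L) (hX : IsCj Z X) (hXL : X ≤ L)
    (hY : IsCj Z Y) (hYL : Y ≤ L) (hne : Y ≠ X) {v u : G} (hv : v ∈ ws V X) (hvE : v ∉ ee L Z X) (hu : u ∈ ws V X)
    (huE : u ∉ ee L Z X) :
    ∃ e ∈ ee L Z Y, e ∈ ws V Y ∧ e ∈ kx V X ∧ e * v ≠ v * e ∧ e * u ≠ u * e := by
  obtain ⟨e1, he1, hw1, hk1, hv1⟩ := h.exists_mov hN hL hX hXL hY hYL hne hv hvE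
  obtain ⟨e2, he2, hw2, hk2, hu2⟩ := h.exists_mov hN hL hX hXL hY hYL hne hu huE
  by_cases hu1 : e1 * u = u * e1
  · by_cases hv2 : e2 * v = v * e2
    · refine ⟨e1 * e2, mul_mem he1 he2, mul_mem hw1 hw2, mul_mem hk1 hk2, fun hcon => hv1 ?_, fun hcon => hu2 ?_⟩
      · have h1 : e1 = (e1 * e2) * e2⁻¹ := by group
        have h2 : e2⁻¹ * v = v * e2⁻¹ := by
          rw [inv_mul_eq_iff_eq_mul, ← mul_assoc, hv2, mul_inv_cancel_right]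
        rw [h1, mul_assoc, h2, ← mul_assoc, hcon, mul_assoc]
      · have h1 : e2 = e1⁻¹ * (e1 * e2) := by group
        have h2 : e1⁻¹ * u = u * e1⁻¹ := by
          rw [inv_mul_eq_iff_eq_mul, ← mul_assoc, hu1, mul_inv_cancel_right]
        rw [h1, mul_assoc, hcon, ← mul_assoc, h2, mul_assoc]
    · exact ⟨e2, he2, hw2, hk2, hv2, hu2⟩
  · exact ⟨e1, he1, hw1, hk1, hv1, hu1⟩

/-- `j := [[w, e] e_y, e]` -/
theorem jay_core {M Y Q : Subgroup G} (hM : IsCj V M) (hZM : Z ≤ M) (hY : Pnt V Z Y) (hYZ : Y ≠ Z) (hQ : IsCj Z Q)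
    (hQM : Q ≤ M) (hQZ : Q ≠ Z) {w e ey g : G} (hw : w ∈ ws V Y) (he : e ∈ ws V Q) (heZ : e ∈ kx V Z)
    (heY : PT.cj e Y ≠ Y) (hey : ey ∈ ee V Z Y) (hg : g ∈ ee V Z Y) (hgQ : PT.cj g Q ≠ Q) (hgZ : g ∈ kx V Z)
    (hc : ∀ q ∈ Q, (w * e * w⁻¹ * e⁻¹ * ey) * q = q * (w * e * w⁻¹ * e⁻¹ * ey)) :
    ∃ j ∈ IV M Z, j ∈ ws V Z ∧ ∀ u ∈ ws V Y, j * u * j⁻¹ * u⁻¹ = (e * ey * e⁻¹) * u * (e * ey * e⁻¹)⁻¹ * u⁻¹ := by
  have hZ := h.self
  have hwi : w⁻¹ = w := h.W_inv hY.cj hw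
  have hei : e⁻¹ = e := h.W_inv hQ he
  have heyW : ey ∈ ws V Y := hey.1
  have heyi : ey⁻¹ = ey := h.W_inv hY.cj heyW
  have hee : e * e = 1 := h.W_sq hQ he
  have hww : w * w = 1 := h.W_sq hY.cj hw
  have heN : e ∈ normalizer (V : Set G) := h.K_norm hZ heZ
  have heYP : Pnt V Z (PT.cj e Y) := ⟨hY.cj.cj e, by
    have := cj_le_cj (g := e) |>.2 hY.le
    rwa [cj_eq_iff.2 heN] at this⟩
  set g1 := w * e * w⁻¹ * e⁻¹ * ey with hg1
  set E := e * ey * e⁻¹ with hE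
  have hEE : E ∈ ee V Z (PT.cj e Y) := by
    rw [← cj_ee heN]
    exact conj_mem_cj hey
  -- `κ² = [w, w^e]`
  set κ := w * e * w⁻¹ * e⁻¹ with hκ
  have hk2 : κ * κ = w * (e * w * e⁻¹) * w⁻¹ * (e * w * e⁻¹)⁻¹ := by
    rw [hκ]
    calc w * e * w⁻¹ * e⁻¹ * (w * e * w⁻¹ * e⁻¹) = w * e * w⁻¹ * e⁻¹ * w * e * w⁻¹ * e⁻¹ := by group
      _ = w * e * w * e⁻¹ * w⁻¹ * e * w⁻¹ * e⁻¹ := by rw [hwi]
      _ = _ := by group
  have hk2I : κ * κ ∈ IV V Z := by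
    rw [hk2]
    exact h.comm_mem hY heYP (Ne.symm heY) hw (by rw [ws_cj]; exact conj_mem_cj hw)
  have hk2W : κ * κ ∈ ws V Y := h.I_le_W hY hk2I
  -- `κ^e = κ⁻¹`
  have hke : e * κ * e⁻¹ = κ⁻¹ := by
    rw [hκ]
    calc e * (w * e * w⁻¹ * e⁻¹) * e⁻¹ = e * w * e * w⁻¹ * (e * e)⁻¹ := by group
      _ = e * w * e⁻¹ * w⁻¹ := by rw [hee, inv_one, mul_one, hei]
      _ = _ := by group
  set j := g1⁻¹ * e * g1 * e⁻¹ with hj
  have hjeq : j = ey * (κ * κ)⁻¹ * E := by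
    have h1 : j = ey⁻¹ * κ⁻¹ * (e * κ * e⁻¹) * (e * ey * e⁻¹) := by
      rw [hj, hg1]; group
    rw [h1, hke, heyi, ← hE]
    group
  -- `j ∈ W_Q`
  have hg1N : g1⁻¹ ∈ normalizer ((ws V Q : Subgroup G) : Set G) := by
    refine inv_mem (normalizer_le_ws V Q (centralizer_le_normalizer _ ?_))
    exact mem_centralizer_iff.2 fun q hq => (hc q hq).symm
  have hjQ : j ∈ ws V Q := by
    have h1 := (mem_normalizer_iff.1 hg1N e).1 he
    rw [inv_inv] at h1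
    exact (ws V Q).mul_mem h1 ((ws V Q).inv_mem he)
  -- `j` commutes with `g`
  have hgj : g * j = j * g := by
    have h1 : g * ey = ey * g := h.comm_W hY.cj hg.1 heyW
    have h2 : g * (κ * κ)⁻¹ = (κ * κ)⁻¹ * g := h.comm_W hY.cj hg.1 (inv_mem hk2W)
    have h3 : g * E = E * g := h.ee_comm hY heYP (Ne.symm heY) hg hEE
    rw [hjeq]
    calc g * (ey * (κ * κ)⁻¹ * E) = (g * ey) * (κ * κ)⁻¹ * E := by group
      _ = ey * (g * (κ * κ)⁻¹) * E := by rw [h1]; group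
      _ = ey * (κ * κ)⁻¹ * (g * E) := by rw [h2]; group
      _ = ey * (κ * κ)⁻¹ * E * g := by rw [h3]; group
  have hjI : j ∈ IV M Z := h.mem_I_of_comm hM hZ.cj hZM hQ hQM hgZ hgQ hjQ hgj
  have hjZ : j ∈ ws V Z := by
    rw [← h.IV_line hM hZ.cj hZM hQ hQM (Ne.symm hQZ)] at hjI
    exact hjI.1
  refine ⟨j, hjI, hjZ, fun u hu => ?_⟩
  have hrW : ey * (κ * κ)⁻¹ ∈ ws V Y := mul_mem heyW (inv_mem hk2W)
  have hEu : E * u * E⁻¹ * u⁻¹ ∈ ws V Y := by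
    have h1 : E * u * E⁻¹ * u⁻¹ ∈ Y := h.ee_act hY (Ne.symm heY) hEE hu
    exact h.V_le_W hY (hY.le h1)
  have h1 : (ey * (κ * κ)⁻¹) * (E * u * E⁻¹ * u⁻¹) = (E * u * E⁻¹ * u⁻¹) * (ey * (κ * κ)⁻¹) :=
    h.comm_W hY.cj hrW hEu
  have h2 : (ey * (κ * κ)⁻¹) * u = u * (ey * (κ * κ)⁻¹) := h.comm_W hY.cj hrW hu
  rw [hjeq]
  set r := ey * (κ * κ)⁻¹ with hr
  calc r * E * u * (r * E)⁻¹ * u⁻¹ = r * (E * u * E⁻¹ * u⁻¹) * u * r⁻¹ * u⁻¹ := by group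
    _ = (E * u * E⁻¹ * u⁻¹) * (r * u) * r⁻¹ * u⁻¹ := by rw [h1]; group
    _ = E * u * E⁻¹ * u⁻¹ := by rw [h2]; group

end One

/-- functionals which kill `E` -/
theorem exists_functional {F M : Type*} [Field F] [AddCommGroup M] [Module F M] {E : Submodule F M} {v w : M}
    (hv : v ∉ E) (hk : ∃ x : M, ∀ c : F, x + c • v ∉ E) (s : F) :
    (∃ f : M →ₗ[F] F, (∀ x ∈ E, f x = 0) ∧ f v = 0 ∧ f w = 0 ∧ ∃ x, f x ≠ 0) ∨
      ∃ f : M →ₗ[F] F, (∀ x ∈ E, f x = 0) ∧ f v = s ∧ f w = 0 := by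
  by_cases hw : w ∈ E ⊔ Submodule.span F {v}
  · left
    obtain ⟨x, hx⟩ := hk
    have hx' : x ∉ E ⊔ Submodule.span F {v} := by
      intro h1
      obtain ⟨e, he, y, hy, rfl⟩ := Submodule.mem_sup.1 h1
      obtain ⟨c, rfl⟩ := Submodule.mem_span_singleton.1 hy
      apply hx (-c)
      rw [neg_smul, add_neg_cancel_right]
      exact he
    obtain ⟨f, hf, hf'⟩ := Submodule.exists_le_ker_of_notMem hx'
    exact ⟨f, fun y hy => LinearMap.mem_ker.1 (hf' (Submodule.mem_sup_left hy)),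
      LinearMap.mem_ker.1 (hf' (Submodule.mem_sup_right (Submodule.mem_span_singleton_self v))),
      LinearMap.mem_ker.1 (hf' hw), x, hf⟩
  · right
    have hv' : v ∉ E ⊔ Submodule.span F {w} := by
      intro h1
      obtain ⟨e, he, y, hy, hev⟩ := Submodule.mem_sup.1 h1
      obtain ⟨c, rfl⟩ := Submodule.mem_span_singleton.1 hy
      by_cases hc : c = 0
      · rw [hc, zero_smul, add_zero] at hev
        exact hv (hev ▸ he)
      · apply hw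
        have h2 : w = -(c⁻¹ • e) + c⁻¹ • v := by
          rw [← hev, smul_add, smul_smul, inv_mul_cancel₀ hc, one_smul, neg_add_cancel_left]
        rw [h2]
        exact Submodule.add_mem_sup (E.neg_mem (E.smul_mem _ he))
          (Submodule.smul_mem _ _ (Submodule.mem_span_singleton_self v))
    obtain ⟨f, hf, hf'⟩ := Submodule.exists_le_ker_of_notMem hv'
    refine ⟨(s * (f v)⁻¹) • f, fun y hy => ?_, ?_, ?_⟩
    · rw [LinearMap.smul_apply, LinearMap.mem_ker.1 (hf' (Submodule.mem_sup_left hy)), smul_zero]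
    · rw [LinearMap.smul_apply, smul_eq_mul, mul_assoc, inv_mul_cancel₀ hf, mul_one]
    · rw [LinearMap.smul_apply,
        LinearMap.mem_ker.1 (hf' (Submodule.mem_sup_right (Submodule.mem_span_singleton_self w))), smul_zero]

namespace Co

variable [Finite G] {F : Type*} [Field F] [CharP F 2] {S : Sylow 2 G} {B P V Z : Subgroup G} (h : Co F S B P V Z)
include h

/-- `C_{W_Z}(E_Y) = E_Z` in case (N) -/
theorem w1_le_ee_ntr [Finite F] (hT : NTr V Z) : w1 V Z Z ≤ ee V Z Z := by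
  intro w hw
  by_contra hwE
  have hwW := (mem_w1.1 hw).1
  have h1 : h.fm ⟨w, hwW⟩ ∉ h.Eb := fun h2 => hwE ((h.fm_Eb_iff hT).1 h2)
  obtain ⟨f, hf, hf'⟩ := Submodule.exists_le_ker_of_notMem h1
  obtain ⟨e, he, hfe⟩ := h.dual_N h.pY h.Yp_ne (hT _ h.pY h.Yp_ne) f
    fun x hx => LinearMap.mem_ker.1 (hf' (h.fm_Eb (w := ⟨x, ee_le hx⟩) hx))
  apply hf
  rw [hfe, h.fn_eq_zero hwW (h.ee_le_kx h.Yp_ne he)]
  exact mem_centralizer_iff.1 ((mem_w1.1 hw).2 _ h.pY h.Yp_ne) e he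

/-- **J**, group level -/
theorem jay [Finite F] (hT : NTr V Z) {M Y Q : Subgroup G} (s : SP V Z V M Z Y Q) {w v : G} (hw : w ∈ ws V Y)
    (hv : v ∈ Q) (hvm : w * v * w⁻¹ * v⁻¹ ∉ ee M Z Z) (hk : ∀ m : h.MF, ∃ x : h.MF, ∀ c : F, x + c • m ∉ h.Eb) :
    ∃ j ∈ IV M Z, j ∈ ee V Z Z ∧ w * j = j * w ∧ ∃ b ∈ ws V Y, b * j ≠ j * b := by
  have hN := h.w1_le_ee_ntr hT
  have hZ := h.one.self
  have hY : Pnt V Z Y := ⟨s.hY, s.hYL⟩
  have hYZ : Y ≠ Z := s.hYX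
  have hvW : v ∈ ws V Z := h.one.line_le_ws s.hM s.hXM (s.hQM hv)
  have hwC : w ∈ centralizer (Z : Set G) := h.one.W_le_C hY hw
  have hwN : w ∈ normalizer ((ws V Z : Subgroup G) : Set G) := normalizer_le_ws V Z (centralizer_le_normalizer _ hwC)
  have hwi : w⁻¹ = w := h.one.W_inv hY.cj hw
  have hcW : w * v * w⁻¹ * v⁻¹ ∈ ws V Z := (ws V Z).mul_mem ((mem_normalizer_iff.1 hwN v).1 hvW) ((ws V Z).inv_mem hvW)
  obtain ⟨y, hy, hyE⟩ := s.s2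
  have hyW : y ∈ ws V Z := h.one.line_le_ws s.hL s.hXL (s.hYL hy)
  obtain ⟨e, heE, heW, heZ, hec, hey⟩ := h.one.exists_mov2 hN s.hM s.hX s.hXM s.hQ s.hQM s.hQX hcW hvm hyW hyE
  have heY : PT.cj e Y ≠ Y := h.one.cj_ne s.hL s.hX s.hXL s.hY s.hYL s.hYX heZ hy hey
  have hei : e⁻¹ = e := h.one.W_inv s.hQ heW
  have heN : e ∈ normalizer (V : Set G) := h.one.K_norm hZ heZ
  -- an element of `E_Y` moving `Q`
  obtain ⟨q, hq, hqE⟩ := s.s1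
  obtain ⟨g, hg, -, hgZ, hgq⟩ := h.one.exists_mov hN s.hL s.hX s.hXL s.hY s.hYL s.hYX
    (h.one.line_le_ws s.hM s.hXM (s.hQM hq)) hqE
  have hgQ : PT.cj g Q ≠ Q := h.one.cj_ne s.hM s.hX s.hXM s.hQ s.hQM s.hQX hgZ hq hgq
  have hv1 : v ≠ 1 := by
    rintro rfl
    apply hvm
    simp
  have hvE : h.fm ⟨v, hvW⟩ ∉ h.Eb := by
    intro h1
    have h2 := (h.fm_Eb_iff hT).1 h1
    exact hqE (h.one.le_ee_of hN s.hL s.hM s.hX s.hXL s.hXM s.hY s.hYL s.hYX s.hQ s.hQM s.hQX hv hv1 h2 (s.hQM hq))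
  -- `k` maps `Y^e` to `Z`
  have hYe : PT.cj e⁻¹ Y ≤ V := by
    have := cj_le_cj (g := e⁻¹) |>.2 hY.le
    rwa [cj_eq_iff.2 (inv_mem heN)] at this
  have hYe' : PT.cj e⁻¹ Y ≠ Y := by rw [hei]; exact heY
  obtain ⟨k, hk1, hk2⟩ := h.one.move hY (⟨hY.cj.cj e⁻¹, hYe⟩ : Pnt V Z (PT.cj e⁻¹ Y)) hZ hYe' (Ne.symm hYZ)
  have hkW : ∀ u ∈ ws V Y, k * (e⁻¹ * u * e) * k⁻¹ ∈ ws V Z := by
    intro u hu
    rw [← hk2, ws_cj, ws_cj]
    have h1 := conj_mem_cj (g := k) (conj_mem_cj (g := e⁻¹) hu)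
    rwa [inv_inv] at h1
  -- the action of `e_y^e` on `W_Y`
  have key : ∀ ey ∈ ee V Z Y, ∀ u (hu : u ∈ ws V Y),
      ((e * ey * e⁻¹) * u = u * (e * ey * e⁻¹) ↔ h.fn (k * (e⁻¹ * u * e) * k⁻¹) ey = 0) := by
    intro ey hey u hu
    have heyZ : ey ∈ kx V Z := h.ee_le_kx hYZ hey
    rw [h.fn_eq_zero (hkW u hu) heyZ]
    have hy0 : k * ey * k⁻¹ * ey⁻¹ ∈ Y := (mem_kx.1 hk1).2 ey hey.1
    have hcomm : ∀ x ∈ ws V Z, (k * ey * k⁻¹ * ey⁻¹) * x = x * (k * ey * k⁻¹ * ey⁻¹) := fun x hx =>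
      (h.one.cent_V (h.one.W_le_cent hZ hx) (hY.le hy0)).symm
    set u'' := k * (e⁻¹ * u * e) * k⁻¹ with hu''
    have h1 := hcomm u'' (hkW u hu)
    have h2 : ey = (k * ey * k⁻¹ * ey⁻¹)⁻¹ * (k * ey * k⁻¹) := by group
    have hu3 : u = e * (k⁻¹ * u'' * k) * e⁻¹ := by rw [hu'']; group
    constructor
    · intro h3
      have h4 : (k * ey * k⁻¹) * u'' = u'' * (k * ey * k⁻¹) := by
        calc (k * ey * k⁻¹) * u'' = k * e⁻¹ * ((e * ey * e⁻¹) * u) * e * k⁻¹ := by rw [hu'']; group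
          _ = k * e⁻¹ * (u * (e * ey * e⁻¹)) * e * k⁻¹ := by rw [h3]
          _ = u'' * (k * ey * k⁻¹) := by rw [hu'']; group
      have h5 : (k * ey * k⁻¹ * ey⁻¹)⁻¹ * u'' = u'' * (k * ey * k⁻¹ * ey⁻¹)⁻¹ := by
        rw [inv_mul_eq_iff_eq_mul, ← mul_assoc, h1, mul_inv_cancel_right]
      rw [h2, mul_assoc, h4, ← mul_assoc, h5, mul_assoc]
    · intro h3
      have h4 : (k * ey * k⁻¹) * u'' = u'' * (k * ey * k⁻¹) := by
        have h5 : k * ey * k⁻¹ = (k * ey * k⁻¹ * ey⁻¹) * ey := by group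
        rw [h5, mul_assoc, h3, ← mul_assoc, h1, mul_assoc]
      rw [hu3]
      calc e * ey * e⁻¹ * (e * (k⁻¹ * u'' * k) * e⁻¹) = e * k⁻¹ * ((k * ey * k⁻¹) * u'') * k * e⁻¹ := by group
        _ = e * k⁻¹ * (u'' * (k * ey * k⁻¹)) * k * e⁻¹ := by rw [h4]
        _ = _ := by group
  -- the end
  have fin : ∀ w' ∈ ws V Y, ∀ ey ∈ ee V Z Y, h.fn v (w' * e * w'⁻¹ * e⁻¹) = h.fn v ey →
      h.fn (k * (e⁻¹ * w * e) * k⁻¹) ey = 0 → (∃ x ∈ ws V Z, h.fn x ey ≠ 0) →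
      ∃ j ∈ IV M Z, j ∈ ee V Z Z ∧ w * j = j * w ∧ ∃ b ∈ ws V Y, b * j ≠ j * b := by
    intro w' hw' ey hey hfe hfw hfx
    have heyZ : ey ∈ kx V Z := h.ee_le_kx hYZ hey
    have hw'N : w' ∈ normalizer ((kx V Z : Subgroup G) : Set G) :=
      normalizer_le_kx V Z (centralizer_le_normalizer _ (h.one.W_le_C hY hw'))
    have hκ : w' * e * w'⁻¹ * e⁻¹ ∈ kx V Z :=
      (kx V Z).mul_mem ((mem_normalizer_iff.1 hw'N e).1 heZ) ((kx V Z).inv_mem heZ)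
    have hg1 : w' * e * w'⁻¹ * e⁻¹ * ey ∈ kx V Z := mul_mem hκ heyZ
    have hg1v : (w' * e * w'⁻¹ * e⁻¹ * ey) * v = v * (w' * e * w'⁻¹ * e⁻¹ * ey) := by
      rw [← h.fn_eq_zero hvW hg1, h.fn_mul' hvW hκ heyZ, hfe, CharTwo.add_self_eq_zero]
    have hg1M := h.one.lin_fix s.hM s.hX s.hXM s.hQ s.hQM (Ne.symm s.hQX) (kx_le_cent hg1) hv hv1 hg1v
    obtain ⟨j, hjI, hjZ, hj⟩ := h.one.jay_core s.hM s.hXM hY hYZ s.hQ s.hQM s.hQX hw' heW heZ heY hey hg hgQ hgZ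
      fun q hq => (mem_centralizer_iff.1 hg1M q (s.hQM hq)).symm
    have heYP : Pnt V Z (PT.cj e Y) := ⟨hY.cj.cj e, by
      have := cj_le_cj (g := e) |>.2 hY.le
      rwa [cj_eq_iff.2 heN] at this⟩
    have hEE : e * ey * e⁻¹ ∈ ee V Z (PT.cj e Y) := by
      rw [← cj_ee heN]
      exact conj_mem_cj hey
    refine ⟨j, hjI, ?_, ?_, ?_⟩
    · refine h.one.mem_ee_of hZ hY hYZ hjZ fun u hu => ?_
      rw [hj u hu]
      exact h.one.ee_act hY (Ne.symm heY) hEE hu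
    · have h1 := (key ey hey w hw).2 hfw
      have h2 := hj w hw
      have h3 : e * ey * e⁻¹ * w * (e * ey * e⁻¹)⁻¹ * w⁻¹ = 1 := by rw [h1]; group
      rw [h3, mul_inv_eq_one, mul_inv_eq_iff_eq_mul] at h2
      exact h2.symm
    · obtain ⟨x, hx, hxe⟩ := hfx
      have hb : e * (k⁻¹ * x * k) * e⁻¹ ∈ ws V Y := by
        have h1 : k⁻¹ * x * k ∈ ws V (PT.cj e⁻¹ Y) := by
          rw [← hk2, ws_cj, mem_cj] at hx
          exact hx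
        rw [ws_cj, mem_cj, inv_inv] at h1
        exact h1
      refine ⟨_, hb, fun hcon => hxe ?_⟩
      have h1 : k * (e⁻¹ * (e * (k⁻¹ * x * k) * e⁻¹) * e) * k⁻¹ = x := by group
      have h2 := (key ey hey _ hb).1 (by
        have h3 := hj _ hb
        have h4 : j * (e * (k⁻¹ * x * k) * e⁻¹) * j⁻¹ * (e * (k⁻¹ * x * k) * e⁻¹)⁻¹ = 1 := by
          rw [← hcon]; group
        rw [h4] at h3
        have h5 := h3.symm
        rwa [mul_inv_eq_one, mul_inv_eq_iff_eq_mul] at h5)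
      rwa [h1] at h2
  -- the functional
  rcases exists_functional (w := h.fm ⟨_, hkW w hw⟩) hvE (hk (h.fm ⟨v, hvW⟩)) (h.fn v (w * e * w⁻¹ * e⁻¹)) with
    ⟨f, hf, hfv, hfw, x, hfx⟩ | ⟨f, hf, hfv, hfw⟩
  · obtain ⟨ey, hey, hfe⟩ := h.dual_N hY hYZ (hT Y hY hYZ) f fun x hx => hf _ (h.fm_Eb (w := ⟨x, ee_le hx⟩) hx)
    refine fin 1 (one_mem _) ey hey ?_ ?_ ?_
    · have h1 : (1 : G) * e * (1 : G)⁻¹ * e⁻¹ = 1 := by group
      rw [h1, h.fn_one' hvW, ← hfe ⟨v, hvW⟩, hfv]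
    · rw [← hfe ⟨_, hkW w hw⟩, hfw]
    · obtain ⟨x', rfl⟩ := h.fm_surj x
      exact ⟨x', x'.2, by rw [← hfe x']; exact hfx⟩
  · obtain ⟨ey, hey, hfe⟩ := h.dual_N hY hYZ (hT Y hY hYZ) f fun x hx => hf _ (h.fm_Eb (w := ⟨x, ee_le hx⟩) hx)
    refine fin w hw ey hey ?_ ?_ ⟨v, hvW, ?_⟩
    · rw [← hfe ⟨v, hvW⟩, hfv]
    · rw [← hfe ⟨_, hkW w hw⟩, hfw]
    · rw [← hfe ⟨v, hvW⟩, hfv]
      -- `f_κ(v) = f_e([w, v])`
      have hwK : w ∈ normalizer ((kx V Z : Subgroup G) : Set G) :=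
        normalizer_le_kx V Z (centralizer_le_normalizer _ hwC)
      have h1 : w * e * w⁻¹ ∈ kx V Z := (mem_normalizer_iff.1 hwK e).1 heZ
      have h2 : h.fn v (w * e * w⁻¹) = h.fn (w * v * w⁻¹ * v⁻¹) e + h.fn v e := by
        have h3 := h.fn_conj (inv_mem hwC) hvW heZ
        rw [inv_inv] at h3
        rw [← h3, ← h.fn_mul hcW hvW heZ]
        congr 1
        rw [hwi]; group
      rw [h.fn_mul' hvW h1 (inv_mem heZ), h2, hei, add_assoc, CharTwo.add_self_eq_zero, add_zero]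
      intro h4
      exact hec ((h.fn_eq_zero hcW heZ).1 h4)

end Co

end Cfsg.Agent.Omega.NO3S.OneQ

end

section


/-!
# NO-3S, `OneSz` (`q ≥ 4`, `n = 1`), case (N), `k ≥ 2`: J, (S2) and Baer-Suzuki at `v0` (bb OMEGA #20317 (C), (E))

`D_Z`, `rd` arbitrary, helper982's `HH`, `A0`, `al0`.

* **`Co.J0`** : the field `J` of `Sg.SgJ` at `l = v0`;
* **`Co.S20`** : for an S-pair `v0`, `x v0` the group `C_A(x v0)` has `F`-dimension at most 1;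
* **`Co.bs0`** : every `a ≠ 1` in `A0` inverts some `o ≠ 1` of odd order.
-/

set_option autoImplicit false
set_option linter.unusedSectionVars false

namespace Cfsg.Agent.Omega.NO3S.OneQ.Co

open Subgroup Cfsg.Agent.Omega.NO3S.PT Cfsg.Agent.Omega.NoFF.Basic
open scoped Pointwise

universe u

variable {G : Type u} [Group G] [Finite G] {F : Type*} [Field F] [CharP F 2] {S : Sylow 2 G} {B P V Z : Subgroup G}
  (h : Co F S B P V Z)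
include h

/-- `rep c v0` as a line vector -/
theorem rc_v0 {c : G} (hc : c ∈ centralizer (Z : Set G)) :
    h.rp ⟨c, h.C_le_hat hc⟩ h.v0 = h.fm ⟨c * h.e 0 1 * c⁻¹, h.W_conj (centralizer_le_normalizer _ hc) (h.W_V 0 1)⟩ :=
  h.rp_fm' (h.C_le_hat hc) (h.W_V 0 1)

theorem rc_inv_mem {c : G} (hc : c ∈ centralizer (Z : Set G)) (m : h.MF) :
    h.rp ⟨c⁻¹, h.C_le_hat (inv_mem hc)⟩ m ∈ h.Eb ↔ m ∈ (h.Eb).map (h.rp ⟨c, h.C_le_hat hc⟩) := by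
  rw [Submodule.mem_map]
  constructor
  · intro h1
    refine ⟨_, h1, ?_⟩
    exact LinearMap.congr_fun (h.hat_mul_inv (h.C_le_hat hc)) m
  · rintro ⟨n, hn, rfl⟩
    have h1 : h.rp ⟨c⁻¹, h.C_le_hat (inv_mem hc)⟩ (h.rp ⟨c, h.C_le_hat hc⟩ n) = n :=
      LinearMap.congr_fun (h.hat_inv_mul (h.C_le_hat hc)) n
    rw [h1]
    exact hn

/-- the S-pair of the lines `V` and `V^c` -/
theorem sp_of (hT : NTr V Z) {c : G} (hc : c ∈ centralizer (Z : Set G))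
    (h1 : h.rp ⟨c, h.C_le_hat hc⟩ h.v0 ∉ h.Eb) (h2 : h.rp ⟨c⁻¹, h.C_le_hat (inv_mem hc)⟩ h.v0 ∉ h.Eb) :
    SP V Z V (PT.cj c V) Z h.Yp (PT.cj c h.Yp) := by
  have hcN := centralizer_le_normalizer _ hc
  have hcZ : PT.cj c Z = Z := cj_eq_iff.2 hcN
  refine ⟨⟨1, (cj_one V).symm⟩, ⟨c, rfl⟩, h.one.pl.isCj_self, h.one.pl.ZV, ?_, h.pY.cj, h.pY.le, h.Yp_ne, h.pY.cj.cj c,
    cj_le_cj.2 h.pY.le, ?_, ?_, ?_⟩
  · have := cj_le_cj (g := c) |>.2 h.one.pl.ZV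
    rwa [hcZ] at this
  · exact fun e => h.Yp_ne (cj_inj.1 (e.trans hcZ.symm))
  · refine ⟨c * h.e 0 1 * c⁻¹, conj_mem_cj (h.e_memY 1), fun hE => h1 ?_⟩
    rw [h.rc_v0 hc]
    exact (h.fm_Eb_iff hT).2 hE
  · refine ⟨h.e 0 1, h.e_memY 1, fun hE => h2 ?_⟩
    rw [h.rc_inv_mem hc]
    exact (h.fm_Ec_iff hT hc (h.W_V 0 1)).2 hE

/-- `[w, x]` in `MF` -/
theorem rp_comm {w x : G} (hw : w ∈ ws V h.Yp) (hx : x ∈ ws V Z) :
    ∃ hwx : w * x * w⁻¹ * x⁻¹ ∈ ws V Z,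
      h.rp ⟨w, h.W_hat h.pY hw⟩ (h.fm ⟨x, hx⟩) + h.fm ⟨x, hx⟩ = h.fm ⟨w * x * w⁻¹ * x⁻¹, hwx⟩ := by
  have hwN := h.hat_norm (h.W_hat h.pY hw)
  have h1 := h.W_conj hwN hx
  refine ⟨mul_mem h1 (inv_mem hx), ?_⟩
  rw [h.rp_fm' (h.W_hat h.pY hw) hx]
  have h2 := h.fm_mul ⟨w * x * w⁻¹, h1⟩ ⟨x⁻¹, inv_mem hx⟩
  have h3 : h.fm ⟨x⁻¹, inv_mem hx⟩ = h.fm ⟨x, hx⟩ := h.fm_inv ⟨x, hx⟩
  rw [h3] at h2
  exact h2.symm

/-- **J at `v0`** -/
theorem J0 [Finite F] (hT : NTr V Z) (hk : ∀ m : h.MF, ∃ x : h.MF, ∀ c : F, x + c • m ∉ h.Eb) {x a : h.HH}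
    (h1 : h.al0 (x • h.v0) ≠ 1) (h2 : h.al0 (x⁻¹ • h.v0) ≠ 1) (ha : a ∈ h.A0)
    (h3 : h.al0 (x⁻¹ • (a • x • h.v0 + x • h.v0)) ≠ 1) :
    ∃ j : h.MF, x⁻¹ • j ∈ h.Ib ∧ h.al0 j = 1 ∧ a • j = j ∧ ∃ b ∈ h.A0, b • j ≠ j := by
  obtain ⟨c, hc, rfl⟩ := h.exists_rH x
  obtain ⟨w, hw, rfl⟩ := h.mem_A0.1 ha
  rw [← h.rH_inv hc] at h2 h3 ⊢
  rw [Ne, h.al0_one hT] at h1 h2 h3
  have hcN := centralizer_le_normalizer _ hc
  have hcZ : PT.cj c Z = Z := cj_eq_iff.2 hcN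
  have s := h.sp_of hT hc h1 h2
  obtain ⟨v, hv⟩ : ∃ v, v = c * h.e 0 1 * c⁻¹ := ⟨_, rfl⟩
  have hvW : v ∈ ws V Z := by rw [hv]; exact h.W_conj hcN (h.W_V 0 1)
  have hvQ : v ∈ PT.cj c h.Yp := by rw [hv]; exact conj_mem_cj (h.e_memY 1)
  have hfv : h.fm ⟨v, hvW⟩ = h.rp ⟨c, h.C_le_hat hc⟩ h.v0 := by
    rw [h.rc_v0 hc]
    exact congrArg h.fm (Subtype.ext hv)
  obtain ⟨hwx, hcomm⟩ := h.rp_comm hw hvW
  have hvm : w * v * w⁻¹ * v⁻¹ ∉ ee (PT.cj c V) Z Z := by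
    intro hE
    apply h3
    change h.rp ⟨c⁻¹, h.C_le_hat (inv_mem hc)⟩ (h.rp ⟨w, h.W_hat h.pY hw⟩ (h.rp ⟨c, h.C_le_hat hc⟩ h.v0) +
      h.rp ⟨c, h.C_le_hat hc⟩ h.v0) ∈ h.Eb
    rw [h.rc_inv_mem hc, ← hfv, hcomm]
    exact (h.fm_Ec_iff hT hc hwx).2 hE
  obtain ⟨j, hjM, hjE, hwj, b, hb, hbj⟩ := h.jay hT s hw hvQ hvm hk
  have hjW : j ∈ ws V Z := hjE.1
  refine ⟨h.fm ⟨j, hjW⟩, ?_, ?_, ?_, ?_⟩
  · have hIc : IV (PT.cj c V) Z = PT.cj c (IV V Z) := by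
      have h5 := PB.Geom.IV_conj h.one.pl h.one.hf c
      rwa [hcZ] at h5
    rw [hIc, mem_cj] at hjM
    refine ⟨_, hjM, ?_⟩
    have h4 := h.rp_fm' (h.C_le_hat (inv_mem hc)) hjW
    have h5 : (⟨c⁻¹ * j * c⁻¹⁻¹, h.W_conj (h.hat_norm (h.C_le_hat (inv_mem hc))) hjW⟩ : ws V Z) =
        ⟨c⁻¹ * j * c, h.one.I_le_W' hjM⟩ := Subtype.ext (by show c⁻¹ * j * c⁻¹⁻¹ = c⁻¹ * j * c; rw [inv_inv])
    rw [h5] at h4
    exact h4.symm
  · rw [h.al0_one hT]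
    exact (h.fm_Eb_iff hT).2 hjE
  · change h.rp ⟨w, h.W_hat h.pY hw⟩ (h.fm ⟨j, hjW⟩) = h.fm ⟨j, hjW⟩
    rw [h.rp_fm' (h.W_hat h.pY hw) hjW]
    congr 1
    apply Subtype.ext
    show w * j * w⁻¹ = j
    rw [hwj, mul_inv_cancel_right]
  · by_contra hcon
    push Not at hcon
    have h4 : j ∈ dd V Z Z := by
      rw [h.cent_N h.pY h.Yp_ne (hT _ h.pY h.Yp_ne) ⟨j, hjW⟩]
      exact fun u hu => hcon _ (h.mem_A0.2 ⟨u, hu, rfl⟩)
    exact hbj (h.one.dd_comm h.pY h.Yp_ne h4 hb).symm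

/-- **Baer-Suzuki in `HH`** -/
theorem bs0 {a : h.HH} (ha : a ∈ h.A0) (ha1 : a ≠ 1) : ∃ o : h.HH, o ≠ 1 ∧ Odd (orderOf o) ∧ a * o * a⁻¹ = o⁻¹ := by
  have : Finite h.HH := Set.finite_range h.ru
  obtain ⟨w, hw, rfl⟩ := h.mem_A0.1 ha
  have hwC := h.one.W_le_C h.pY hw
  have ht : h.rH w hwC * h.rH w hwC = 1 := by
    rw [← h.rH_mul hwC hwC]
    apply h.HH_ext
    intro m
    have hww : w * w = 1 := PB.Geom.ws_sq_pt h.one.pl h.pY.cj w hw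
    have e := h.rH_congr (mul_mem hwC hwC) hww
    rw [e]
    have e2 : h.rH 1 (one_mem _) = 1 := by
      apply Subtype.ext
      exact map_one h.ru
    rw [e2]
  refine Involutions.BaerSuzuki.exists_odd_inverted _ ht fun hp => ha1 ?_
  have : (normalClosure {h.rH w hwC} : Subgroup h.HH).Normal := normalClosure_normal
  obtain ⟨T, hT⟩ : ∃ T : Subgroup h.HH, T = (B.subgroupOf (centralizer (Z : Set G))).map h.ru.rangeRestrict := ⟨_, rfl⟩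
  have h1 : IsPGroup 2 T := by
    rw [hT]
    refine IsPGroup.map ?_ _
    exact h.one.isP_B.comap_of_injective (centralizer (Z : Set G)).subtype (Subgroup.subtype_injective _)
  have h2 : ¬ 2 ∣ T.index := by
    rw [hT]
    intro h3
    refine h.one.B_index (h3.trans ?_)
    exact Subgroup.index_map_dvd _ (MonoidHom.rangeRestrict_surjective h.ru)
  have : Fact (Nat.Prime 2) := ⟨Nat.prime_two⟩
  have h3 : (normalClosure {h.rH w hwC} : Subgroup h.HH) ≤ T :=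
    IsPGroup.le_sylow_of_normal hp (h1.toSylow h2)
  have h4 : ∀ x ∈ (normalClosure {h.rH w hwC} : Subgroup h.HH), x • h.v0 = h.v0 := by
    intro x hx
    have h5 := h3 hx
    rw [hT] at h5
    obtain ⟨b, hb, rfl⟩ := mem_map.1 h5
    exact h.rp_B (mem_subgroupOf.1 hb)
  -- the fixed points of `N`
  apply h.HH_ext
  intro m
  rw [one_smul]
  have h5 : m ∈ Submodule.span F (Set.range fun x : h.HH => x • h.v0) := by
    rw [h.span_v0]; exact Submodule.mem_top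
  induction h5 using Submodule.span_induction with
  | mem a ha =>
    obtain ⟨y, rfl⟩ := ha
    have h6 : y⁻¹ * h.rH w hwC * y ∈ (normalClosure {h.rH w hwC} : Subgroup h.HH) := by
      have := Subgroup.Normal.conj_mem (inferInstanceAs ((normalClosure {h.rH w hwC} : Subgroup h.HH).Normal)) _
        (subset_normalClosure rfl : h.rH w hwC ∈ (normalClosure {h.rH w hwC} : Subgroup h.HH)) y⁻¹
      rwa [inv_inv] at this
    have h7 := h4 _ h6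
    show h.rH w hwC • y • h.v0 = y • h.v0
    rw [mul_smul, mul_smul, inv_smul_eq_iff] at h7
    exact h7
  | zero => rw [smul_zero]
  | add a b _ _ ha hb => rw [smul_add, ha, hb]
  | smul c a _ ha => rw [smul_comm, ha]

theorem e_mem_Z {x y : F} (hx : h.e x y ∈ Z) : y = 0 := by
  obtain ⟨a, ha⟩ := (h.mem_Z _).1 hx
  exact (h.e_inj ha).2.symm

/-- elements of `X_l ∩ N(Z)` act `F`-linearly -/
theorem XV_hat {n : G} (hn : n ∈ XV V Z) (hnZ : PT.cj n Z = Z) : n ∈ h.hat := by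
  obtain ⟨a, b, c, d, hdet, hact⟩ := h.XV_mat hn
  have h1 : h.e (a * 1 + b * 0) (c * 1 + d * 0) ∈ Z := by
    rw [← hact 1 0]
    have := conj_mem_cj (g := n) (h.e_memZ 1)
    rwa [hnZ] at this
  rw [mul_one, mul_one, mul_zero, mul_zero, add_zero, add_zero] at h1
  have hc0 : c = 0 := h.e_mem_Z h1
  subst hc0
  have ha : a ≠ 0 := by
    rintro rfl
    rw [zero_mul, mul_zero, add_zero] at hdet
    exact zero_ne_one hdet
  refine ⟨cj_eq_iff.1 hnZ, Units.mk0 a ha, fun x => ?_⟩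
  rw [hact x 0]
  congr 1 <;> simp

/-- **(S2)**, group level -/
theorem s2_core [Finite F] (hT : NTr V Z) {c : G} (hc : c ∈ centralizer (Z : Set G))
    (s : SP V Z V (PT.cj c V) Z h.Yp (PT.cj c h.Yp)) :
    ∃ n ∈ XV V Z, PT.cj n h.Yp = Z ∧ ∀ w (hw : w ∈ ws V h.Yp),
      h.rp ⟨w, h.W_hat h.pY hw⟩ (h.rp ⟨c, h.C_le_hat hc⟩ h.v0) = h.rp ⟨c, h.C_le_hat hc⟩ h.v0 →
        ∀ hnw : n * w * n⁻¹ ∈ ws V Z,
          h.fm ⟨n * w * n⁻¹, hnw⟩ ∈ h.Eb ⊔ Submodule.span F {h.rp ⟨c, h.C_le_hat hc⟩ h.v0} := by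
  have hN := h.w1_le_ee_ntr hT
  have hZ := h.one.self
  have hcN := centralizer_le_normalizer _ hc
  obtain ⟨Y, hYeq⟩ : ∃ Y, Y = h.Yp := ⟨_, rfl⟩
  have hY : Pnt V Z Y := hYeq ▸ h.pY
  have hYZ : Y ≠ Z := hYeq ▸ h.Yp_ne
  obtain ⟨M, hMeq⟩ : ∃ M, M = PT.cj c V := ⟨_, rfl⟩
  obtain ⟨Q, hQeq⟩ : ∃ Q, Q = PT.cj c h.Yp := ⟨_, rfl⟩
  rw [← hMeq, ← hQeq, ← hYeq] at s
  obtain ⟨v, hv⟩ : ∃ v, v = c * h.e 0 1 * c⁻¹ := ⟨_, rfl⟩
  have hvW : v ∈ ws V Z := by rw [hv]; exact h.W_conj hcN (h.W_V 0 1)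
  have hvQ : v ∈ Q := by rw [hv, hQeq]; exact conj_mem_cj (h.e_memY 1)
  have hfv : h.fm ⟨v, hvW⟩ = h.rp ⟨c, h.C_le_hat hc⟩ h.v0 := by
    rw [h.rc_v0 hc]
    exact congrArg h.fm (Subtype.ext hv)
  have hv1 : v ≠ 1 := by
    rintro hv1
    have h1 : h.e 0 1 = 1 := by
      rw [hv1] at hv
      have : h.e 0 1 = c⁻¹ * (c * h.e 0 1 * c⁻¹) * c := by group
      rw [this, ← hv]; group
    have h2 : h.e 0 1 ∈ Z := by rw [h1]; exact one_mem _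
    exact one_ne_zero (h.e_mem_Z h2)
  obtain ⟨y, hy, hyE⟩ := s.s2
  have hyW : y ∈ ws V Z := h.one.line_le_ws s.hL s.hXL (s.hYL hy)
  obtain ⟨e, heE, heW, heZ, hey⟩ := h.one.exists_mov hN s.hM s.hX s.hXM s.hQ s.hQM s.hQX hyW hyE
  have heY : PT.cj e Y ≠ Y := h.one.cj_ne s.hL s.hX s.hXL s.hY s.hYL s.hYX heZ hy hey
  have hei : e⁻¹ = e := h.one.W_inv s.hQ heW
  have heN : e ∈ normalizer (V : Set G) := h.one.K_norm hZ heZ
  obtain ⟨q, hq, hqE⟩ := s.s1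
  obtain ⟨g, hg, -, hgZ, hgq⟩ := h.one.exists_mov hN s.hL s.hX s.hXL s.hY s.hYL s.hYX
    (h.one.line_le_ws s.hM s.hXM (s.hQM hq)) hqE
  have hgQ : PT.cj g Q ≠ Q := h.one.cj_ne s.hM s.hX s.hXM s.hQ s.hQM s.hQX hgZ hq hgq
  have hYe : PT.cj e⁻¹ Y ≤ V := by
    have := cj_le_cj (g := e⁻¹) |>.2 hY.le
    rwa [cj_eq_iff.2 (inv_mem heN)] at this
  have hYe' : PT.cj e⁻¹ Y ≠ Y := by rw [hei]; exact heY
  obtain ⟨k, hk1, hk2⟩ := h.one.move hY (⟨hY.cj.cj e⁻¹, hYe⟩ : Pnt V Z (PT.cj e⁻¹ Y)) hZ hYe' (Ne.symm hYZ)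
  have hn1 : k * e⁻¹ ∈ XV V Z := mul_mem (le_XV hY.cj hY.le hk1) (inv_mem (le_XV hZ.cj hZ.le heZ))
  refine ⟨k * e⁻¹, hn1, by rw [← cj_cj, ← hYeq, hk2], ?_⟩
  intro w hw hfix hnw
  rw [← hYeq] at hw
  -- `w` centralises `M / Z`
  have hwC : w ∈ centralizer (Z : Set G) := h.one.W_le_C hY hw
  have hwM : w ∈ normalizer (M : Set G) := by
    have key : ∀ u ∈ M, w * u * w⁻¹ * u⁻¹ ∈ Z := by
      intro u hu
      rw [hMeq, mem_cj] at hu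
      obtain ⟨x, t, hxt⟩ := (h.mem_V _).1 hu
      have hu' : u = c * h.e x t * c⁻¹ := by rw [hxt]; group
      have huW : u ∈ ws V Z := by rw [hu']; exact h.W_conj hcN (h.W_V x t)
      have huf : h.fm ⟨u, huW⟩ = t • h.rp ⟨c, h.C_le_hat hc⟩ h.v0 := by
        have e1 : h.rp ⟨c, h.C_le_hat hc⟩ (h.fm ⟨h.e x t, h.W_V x t⟩) = _ := h.rp_fm' (h.C_le_hat hc) (h.W_V x t)
        rw [h.fm_e, map_smul] at e1
        rw [e1]
        exact congrArg h.fm (Subtype.ext hu')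
      obtain ⟨hwx, hcomm⟩ := h.rp_comm (hYeq ▸ hw) huW
      have h1 : h.fm ⟨w * u * w⁻¹ * u⁻¹, hwx⟩ = 0 := by
        rw [← hcomm, huf, map_smul, hfix]
        exact h.add_self _
      have h2 : w * u * w⁻¹ * u⁻¹ ∈ rd V Z := (h.fm_eq_zero _).1 h1
      exact h.rd_inf_I ⟨h2, h.one.comm_mem hY hZ hYZ hw huW⟩
    rw [← cj_eq_iff]
    refine eq_of_le_of_card_ge (fun u hu => ?_) (by rw [card_cj])
    rw [mem_cj] at hu
    have h1 := s.hXM (key _ hu)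
    have h2 : u = w * (w⁻¹ * u * w) * w⁻¹ * (w⁻¹ * u * w)⁻¹ * (w⁻¹ * u * w) := by group
    rw [h2]
    exact mul_mem h1 hu
  have hwIM : w ∈ normalizer ((IV M Z : Subgroup G) : Set G) := by
    have h1 := PB.Geom.IV_conj h.one.pl h.one.hf (w * c)
    have h2 := PB.Geom.IV_conj h.one.pl h.one.hf c
    have hcZ : PT.cj c Z = Z := cj_eq_iff.2 hcN
    have hwZ : PT.cj w Z = Z := cj_eq_iff.2 (centralizer_le_normalizer _ hwC)
    rw [← cj_cj, ← cj_cj, ← cj_cj, hcZ, hwZ, ← hMeq, cj_eq_iff.2 hwM] at h1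
    rw [hcZ, ← hMeq] at h2
    rw [← cj_eq_iff]
    nth_rw 1 [h2]
    exact h1.symm
  -- all functionals which kill `E` and `v`
  by_contra hcon
  obtain ⟨f, hf, hf'⟩ := Submodule.exists_le_ker_of_notMem hcon
  have hfE : ∀ x ∈ h.Eb, f x = 0 := fun x hx => LinearMap.mem_ker.1 (hf' (Submodule.mem_sup_left hx))
  have hfv0 : f (h.fm ⟨v, hvW⟩) = 0 := by
    rw [hfv]
    exact LinearMap.mem_ker.1 (hf' (Submodule.mem_sup_right (Submodule.mem_span_singleton_self _)))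
  obtain ⟨ey, hey, hfe⟩ := h.dual_N hY hYZ (hT Y hY hYZ) f fun x hx => hfE _ (h.fm_Eb (w := ⟨x, ee_le hx⟩) hx)
  have heyZ : ey ∈ kx V Z := h.ee_le_kx hYZ hey
  have hfv1 : h.fn v ey = 0 := by rw [← hfe ⟨v, hvW⟩, hfv0]
  have hg1v : ey * v = v * ey := (h.fn_eq_zero hvW heyZ).1 hfv1
  have hg1M := h.one.lin_fix s.hM s.hX s.hXM s.hQ s.hQM (Ne.symm s.hQX) (kx_le_cent heyZ) hvQ hv1 hg1v
  obtain ⟨j, hjI, hjZ, hj⟩ := h.one.jay_core s.hM s.hXM hY hYZ s.hQ s.hQM s.hQX (one_mem _) heW heZ heY hey hg hgQ hgZ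
    fun q hq => by
      have h1 := (mem_centralizer_iff.1 hg1M q (s.hQM hq)).symm
      have h2 : (1 : G) * e * (1 : G)⁻¹ * e⁻¹ * ey = ey := by group
      rw [h2]; exact h1
  have heYP : Pnt V Z (PT.cj e Y) := ⟨hY.cj.cj e, by
    have := cj_le_cj (g := e) |>.2 hY.le
    rwa [cj_eq_iff.2 heN] at this⟩
  have hEE : e * ey * e⁻¹ ∈ ee V Z (PT.cj e Y) := by
    rw [← cj_ee heN]
    exact conj_mem_cj hey
  -- `[j, w] = 1`
  have hjw : j * w * j⁻¹ * w⁻¹ = 1 := by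
    have h1 : j * w * j⁻¹ * w⁻¹ ∈ Y := by
      rw [hj w hw]
      exact h.one.ee_act hY (Ne.symm heY) hEE hw
    have h2 : j * w * j⁻¹ * w⁻¹ ∈ IV M Z := by
      have h3 := (mem_normalizer_iff.1 hwIM _).1 (inv_mem hjI)
      have h4 : j * w * j⁻¹ * w⁻¹ = j * (w * j⁻¹ * w⁻¹) := by group
      rw [h4]
      exact mul_mem hjI h3
    by_contra h3
    have h4 : j * w * j⁻¹ * w⁻¹ ∈ ee M Z Z :=
      h.one.dd_le_ee_line s.hM s.hX s.hXM (h.one.I_le_dd_line s.hM s.hX s.hXM h2)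
    exact hyE (h.one.le_ee_of hN s.hM s.hL s.hX s.hXM s.hXL s.hQ s.hQM s.hQX s.hY s.hYL s.hYX h1 h3 h4 (s.hYL hy))
  -- hence `f` kills `w`
  apply hf
  have hy0 : k * ey * k⁻¹ * ey⁻¹ ∈ Y := (mem_kx.1 hk1).2 ey hey.1
  have h1 := hj w hw
  rw [hjw] at h1
  have h2 : (e * ey * e⁻¹) * w = w * (e * ey * e⁻¹) := by
    have h3 := h1.symm
    rwa [mul_inv_eq_one, mul_inv_eq_iff_eq_mul] at h3
  have h3 : (k * ey * k⁻¹) * (k * e⁻¹ * w * (k * e⁻¹)⁻¹) = (k * e⁻¹ * w * (k * e⁻¹)⁻¹) * (k * ey * k⁻¹) := by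
    calc (k * ey * k⁻¹) * (k * e⁻¹ * w * (k * e⁻¹)⁻¹) = k * e⁻¹ * ((e * ey * e⁻¹) * w) * e * k⁻¹ := by group
      _ = k * e⁻¹ * (w * (e * ey * e⁻¹)) * e * k⁻¹ := by rw [h2]
      _ = _ := by group
  have h4 : (k * ey * k⁻¹ * ey⁻¹) * (k * e⁻¹ * w * (k * e⁻¹)⁻¹) = (k * e⁻¹ * w * (k * e⁻¹)⁻¹) * (k * ey * k⁻¹ * ey⁻¹) :=
    (h.one.cent_V (h.one.W_le_cent hZ hnw) (hY.le hy0)).symm
  have h5 : ey * (k * e⁻¹ * w * (k * e⁻¹)⁻¹) = (k * e⁻¹ * w * (k * e⁻¹)⁻¹) * ey := by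
    have h6 : ey = (k * ey * k⁻¹ * ey⁻¹)⁻¹ * (k * ey * k⁻¹) := by group
    have h7 : (k * ey * k⁻¹ * ey⁻¹)⁻¹ * (k * e⁻¹ * w * (k * e⁻¹)⁻¹) =
        (k * e⁻¹ * w * (k * e⁻¹)⁻¹) * (k * ey * k⁻¹ * ey⁻¹)⁻¹ := by
      rw [inv_mul_eq_iff_eq_mul, ← mul_assoc, h4, mul_inv_cancel_right]
    rw [h6, mul_assoc, h3, ← mul_assoc, h7, mul_assoc]
  rw [hfe ⟨_, hnw⟩, h.fn_eq_zero hnw heyZ]
  exact h5

/-- **(S2)**: `C_A(x v0)` has `F`-dimension at most 1 -/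
theorem S20 [Finite F] (hT : NTr V Z) {x : h.HH} (h1 : h.al0 (x • h.v0) ≠ 1) (h2 : h.al0 (x⁻¹ • h.v0) ≠ 1)
    {y y' : h.MF} (hy : h.al0 y • x • h.v0 = x • h.v0) (hy' : h.al0 y' • x • h.v0 = x • h.v0) :
    ∃ f g : F, ¬ (f = 0 ∧ g = 0) ∧ h.al0 (f • y + g • y') = 1 := by
  obtain ⟨c, hc, rfl⟩ := h.exists_rH x
  rw [← h.rH_inv hc] at h2
  rw [Ne, h.al0_one hT] at h1 h2
  have s := h.sp_of hT hc h1 h2
  obtain ⟨n, hn, hnY, hfix⟩ := h.s2_core hT hc s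
  have hm : n * h.sw ∈ XV V Z := mul_mem hn h.sw_XV
  have hmZ : PT.cj (n * h.sw) Z = Z := by rw [← cj_cj, h.cj_sw, hnY]
  have hhat : n * h.sw ∈ h.hat := h.XV_hat hm hmZ
  have hmN : n * h.sw ∈ normalizer (V : Set G) := h.one.pl.XV_le_N hm
  have key : ∀ y : h.MF, h.al0 y • h.rH c hc • h.v0 = h.rH c hc • h.v0 →
      ∃ t : F, h.rp ⟨n * h.sw, hhat⟩ y + t • h.rp ⟨c, h.C_le_hat hc⟩ h.v0 ∈ h.Eb := by
    intro y hy
    obtain ⟨w, rfl⟩ := h.fm_surj y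
    rw [h.al0_smul, h.al_fm hT] at hy
    have hw := h.sw_W w.2
    have hnw : n * (h.sw * w * h.sw⁻¹) * n⁻¹ ∈ ws V Z := by
      have h8 : n * (h.sw * w * h.sw⁻¹) * n⁻¹ ∈ ws V (PT.cj n h.Yp) := by
        rw [ws_cj]
        exact conj_mem_cj hw
      exact (congrArg (ws V) hnY).le h8
    have h3 := hfix _ hw hy hnw
    obtain ⟨E, hE, b, hb, heb⟩ := Submodule.mem_sup.1 h3
    obtain ⟨t, rfl⟩ := Submodule.mem_span_singleton.1 hb
    refine ⟨t, ?_⟩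
    have h4 : h.rp ⟨n * h.sw, hhat⟩ (h.fm w) = h.fm ⟨n * (h.sw * w * h.sw⁻¹) * n⁻¹, hnw⟩ := by
      have h5 : h.rp ⟨n * h.sw, hhat⟩ (h.fm w) = _ := h.rp_fm' hhat w.2
      rw [h5]
      exact congrArg h.fm (Subtype.ext (by
        show n * h.sw * w * (n * h.sw)⁻¹ = n * (h.sw * w * h.sw⁻¹) * n⁻¹
        group))
    rw [h4, ← heb, add_assoc, h.add_self, add_zero]
    exact hE
  -- `rp` preserves `E`
  have hEb : ∀ m : h.MF, h.rp ⟨n * h.sw, hhat⟩ m ∈ h.Eb → m ∈ h.Eb := by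
    intro m hm1
    obtain ⟨w, rfl⟩ := h.fm_surj m
    have h5 : h.rp ⟨n * h.sw, hhat⟩ (h.fm w) = _ := h.rp_fm' hhat w.2
    rw [h5, h.fm_Eb_iff hT] at hm1
    rw [h.fm_Eb_iff hT]
    have h6 := cj_ee (X := Z) (Z := Z) hmN
    rw [hmZ] at h6
    rw [← h6, mem_cj] at hm1
    have h7 : (n * h.sw)⁻¹ * (n * h.sw * w * (n * h.sw)⁻¹) * (n * h.sw) = w := by group
    rwa [h7] at hm1
  obtain ⟨t, ht⟩ := key y hy
  obtain ⟨t', ht'⟩ := key y' hy'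
  obtain ⟨f, g, hfg, hft⟩ : ∃ f g : F, ¬ (f = 0 ∧ g = 0) ∧ f * t + g * t' = 0 := by
    by_cases h0 : t = 0
    · exact ⟨1, 0, fun e => one_ne_zero e.1, by rw [h0]; ring⟩
    · exact ⟨t', t, fun e => h0 e.2, by rw [mul_comm t t']; exact CharTwo.add_self_eq_zero _⟩
  refine ⟨f, g, hfg, ?_⟩
  rw [h.al0_one hT]
  apply hEb
  have h3 := h.Eb.add_mem (h.Eb.smul_mem f ht) (h.Eb.smul_mem g ht')
  rw [smul_add, smul_add, smul_smul, smul_smul, add_add_add_comm, ← add_smul, hft, zero_smul, add_zero, ← map_smul,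
    ← map_smul, ← map_add] at h3
  exact h3

end Cfsg.Agent.Omega.NO3S.OneQ.Co

end

section


/-!
# NO-3S, `OneSz` (`q ≥ 4`, `n = 1`), case (N), `k ≥ 2`: K, S-pairs and `big` at every line vector (bb OMEGA #20317)

The literals of `Sg.SgB.ti_main`; arbitrary `D_x` (`I0` arbitrary).

* `Loc.al0_stab`, `Loc.at_al_one'` : `AL l m = 1` by any representative of `l`;
* `Loc.at_K`, `Loc.at_sp`, `Loc.at_big` : transport from `v0`;
* `Co.K_v0`, `Co.sp_v0`, `Co.big_v0` : the facts at `v0`.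
-/

set_option autoImplicit false
set_option linter.unusedSectionVars false

namespace Cfsg.Agent.Omega.NO3S.OneQ.TIq.Loc

variable {F M H : Type*} [Field F] [AddCommGroup M] [Module F M] [Group H] [DistribMulAction H M]
  [SMulCommClass H F M] {v0 : M} {A0 : Subgroup H} {I0 : Submodule F M} {al0 : M → H}
  (D : Loc F v0 A0 I0 al0)
include D

/-- `Ē` is invariant under the stabiliser of the point -/
theorem al0_stab {z : H} {c : F} (hz : z • v0 = c • v0) {e : M} (he : al0 e = 1) : al0 (z • e) = 1 := by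
  have hc : c ≠ 0 := by
    rintro rfl
    rw [zero_smul] at hz
    exact D.ne0 ((smul_eq_zero_iff_eq z).1 hz)
  rw [D.al_ker] at he ⊢
  intro a ha
  have h1 : z⁻¹ • v0 = c⁻¹ • v0 := by
    have h2 : v0 = c • z⁻¹ • v0 := by
      calc v0 = z⁻¹ • z • v0 := (inv_smul_smul _ _).symm
        _ = c • z⁻¹ • v0 := by rw [hz, lin]
    calc z⁻¹ • v0 = c⁻¹ • c • z⁻¹ • v0 := by rw [smul_smul, inv_mul_cancel₀ hc, one_smul]
      _ = c⁻¹ • v0 := by rw [← h2]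
  have h2 := D.sA h1 ha
  rw [inv_inv] at h2
  obtain ⟨d, hd⟩ := he _ h2
  refine ⟨d * c, ?_⟩
  have h3 : a • z • e = z • ((z⁻¹ * a * z) • e) := by
    rw [smul_smul, smul_smul]
    congr 1
    group
  rw [h3, hd, smul_add, lin, hz, smul_smul]

theorem al0_sm {c : F} {e : M} (he : al0 e = 1) : al0 (c • e) = 1 := by
  rw [D.al_ker] at he ⊢
  intro a ha
  obtain ⟨d, hd⟩ := he a ha
  exact ⟨c * d, by rw [lin, hd, smul_add, smul_smul]⟩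

theorem al0_sm_iff {c : F} (hc : c ≠ 0) {e : M} : al0 (c • e) = 1 ↔ al0 e = 1 := by
  refine ⟨fun h1 => ?_, D.al0_sm⟩
  have h2 := D.al0_sm (c := c⁻¹) h1
  rwa [smul_smul, inv_mul_cancel₀ hc, one_smul] at h2

/-- `AL l m = 1` by any representative of `l` -/
theorem at_al_one' {l m : M} {x : H} {c : F} (hc : c ≠ 0) (hx : l = c • x • v0) :
    AL F v0 al0 l m = 1 ↔ al0 (x⁻¹ • m) = 1 := by
  rw [D.at_al_one]
  obtain ⟨d, hd, hg⟩ := rr_spec F H (⟨x, c, hc, hx⟩ : l ∈ LL F H v0)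
  obtain ⟨g, hgd⟩ : ∃ g, g = rr F H v0 l := ⟨_, rfl⟩
  rw [← hgd] at hg ⊢
  have e1 := hx.symm.trans hg
  constructor
  · intro h1
    have h2 := D.al0_stab (D.stab' hd hc e1.symm) h1
    rwa [smul_smul, mul_inv_cancel_right] at h2
  · intro h1
    have h2 := D.al0_stab (D.stab' hc hd e1) h1
    rwa [smul_smul, mul_inv_cancel_right] at h2

/-- **K** at every line vector -/
theorem at_K (hK : ∀ {x : H} {y : M} (f : M →ₗ[F] F), (∀ e, al0 e = 1 → f (x • e) = 0) → f v0 ≠ 0 →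
      f (al0 y • x • v0) = 0 → (∀ c : F, al0 y • y + y ≠ c • v0) → ∀ a : F, al0 (a • x • v0) • x • v0 = x • v0)
    {l m x : M} (f : M →ₗ[F] F) (hl : l ∈ LL F H v0) (hm : m ∈ LL F H v0)
    (hf : ∀ e, AL F v0 al0 m e = 1 → f e = 0) (hfl : f l ≠ 0) (hfx : f (AL F v0 al0 l x • m + m) = 0)
    (hx : ∀ c : F, AL F v0 al0 l x • x + x ≠ c • l) : ∃ c : F, AL F v0 al0 l m • m + m = c • l := by
  obtain ⟨d, hd, hld⟩ := rr_spec F H hl
  obtain ⟨x0, c, hc, h1, h2⟩ := D.exists_rep (l := l) hm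
  obtain ⟨d', hd', hg'⟩ := D.rr_v0 hl
  obtain ⟨f', hf'⟩ : ∃ f' : M →ₗ[F] F, f' = f.comp (DistribSMul.toLinearMap F M (rr F H v0 l)) := ⟨_, rfl⟩
  have hfe : ∀ v, f' v = f (rr F H v0 l • v) := fun v => by rw [hf']; rfl
  have hfm : f m = 0 := hf m ((D.at_al_one' hc h2).2 (by
    rw [h2, lin, inv_smul_smul]
    refine D.al0_sm ((D.al_ker v0).2 fun a ha => ⟨0, ?_⟩)
    rw [zero_smul, add_zero]
    exact D.fix ha D.self))
  have h3 := hK (x := x0) (y := (rr F H v0 l)⁻¹ • x) f' (fun e he => by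
      rw [hfe, smul_smul]
      refine hf _ ((D.at_al_one' hc h2).2 ?_)
      rw [inv_smul_smul]
      exact he) (by
      rw [hfe, hg', map_smul, smul_eq_mul]
      exact mul_ne_zero hd' hfl) (by
      have h4 : f (AL F v0 al0 l x • m) = 0 := by
        rw [map_add, hfm, add_zero] at hfx
        exact hfx
      rw [D.act_AL, h1, lin, lin, map_smul, smul_eq_mul] at h4
      rw [hfe]
      exact (mul_eq_zero.1 h4).resolve_left hc) (fun b hb => by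
      apply hx (b * d')
      rw [D.act_AL', hb, lin, hg', smul_smul]) c
  refine ⟨0, ?_⟩
  have h4 : AL F v0 al0 l m • m = m := by
    rw [D.act_AL, h1, lin, h3, lin, ← mul_smul, ← h2]
  rw [h4, D.two, zero_smul]

/-- **S-pairs** at every line vector -/
theorem at_sp (hsp : ∃ x : H, al0 (x • v0) ≠ 1 ∧ al0 (x⁻¹ • v0) ≠ 1) {l : M} (hl : l ∈ LL F H v0) :
    ∃ m ∈ LL F H v0, AL F v0 al0 l m ≠ 1 ∧ AL F v0 al0 m l ≠ 1 := by
  obtain ⟨x, hx1, hx2⟩ := hsp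
  obtain ⟨y, c, hc, hlc⟩ := id hl
  have hm : (y * x) • v0 = (1 : F) • (y * x) • v0 := (one_smul F _).symm
  refine ⟨(y * x) • v0, ⟨y * x, 1, one_ne_zero, hm⟩, ?_, ?_⟩
  · rw [Ne, D.at_al_one' hc hlc, ← mul_smul, inv_mul_cancel_left]
    exact hx1
  · rw [Ne, D.at_al_one' one_ne_zero hm, hlc, lin, D.al0_sm_iff hc, ← mul_smul]
    have e : (y * x)⁻¹ * y = x⁻¹ := by group
    rw [e]
    exact hx2

/-- `k ≥ 2` at every line vector -/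
theorem at_big (hb : ∃ x y : M, ∀ f g : F, al0 (f • x + g • y) = 1 → f = 0 ∧ g = 0) {l : M} (hl : l ∈ LL F H v0) :
    ∃ x y : M, Sg.T.Pre.Ind F (AL F v0 al0) l x y := by
  obtain ⟨x, y, hxy⟩ := hb
  obtain ⟨z, c, hc, hlc⟩ := id hl
  refine ⟨z • x, z • y, fun f g h1 => hxy f g ?_⟩
  rw [D.at_al_one' hc hlc, smul_add, lin, lin, inv_smul_smul, inv_smul_smul] at h1
  exact h1

end Cfsg.Agent.Omega.NO3S.OneQ.TIq.Loc

namespace Cfsg.Agent.Omega.NO3S.OneQ.Co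

open Subgroup Cfsg Cfsg.Agent.Omega.NO3S.PT Cfsg.Agent.Omega.NoFF.Basic
open scoped Pointwise

universe u

variable {G : Type u} [Group G] [Finite G] {F : Type*} [Field F] [CharP F 2] {S : Sylow 2 G} {B P V Z : Subgroup G}
  (h : Co F S B P V Z)

/-- **K** at `v0` -/
theorem K_v0 [Finite F] (hG : IsCharacteristicTwoType G) (hN : NTr V Z) {x : h.HH} {y : h.MF} (f : h.MF →ₗ[F] F)
    (hf : ∀ e, h.al0 e = 1 → f (x • e) = 0) (hf0 : f h.v0 ≠ 0) (hy : f (h.al0 y • x • h.v0) = 0)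
    (hq : ∀ c : F, h.al0 y • y + y ≠ c • h.v0) (a : F) : h.al0 (a • x • h.v0) • x • h.v0 = x • h.v0 := by
  obtain ⟨c, hc, rfl⟩ := h.exists_rH x
  have h1 := h.kap hG hN hc f (fun m hm => hf m ((h.al0_one hN).2 hm)) hf0 y hy (fun hq' => by
    obtain ⟨d, hd⟩ := Submodule.mem_span_singleton.1 hq'
    apply hq d
    rw [h.al0_smul, ← h.sub_eq]
    exact hd.symm) a
  exact h1

/-- **S-pairs** at `v0` -/
theorem sp_v0 [Finite F] (hN : NTr V Z) : ∃ x : h.HH, h.al0 (x • h.v0) ≠ 1 ∧ h.al0 (x⁻¹ • h.v0) ≠ 1 := by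
  obtain ⟨c, hc, h1, h2⟩ := h.exists_SPM hN
  refine ⟨h.rH c hc, ?_, ?_⟩
  · rw [Ne, h.al0_one hN]
    exact h2
  · rw [Ne, h.al0_one hN]
    intro h3
    apply h1
    refine ⟨_, h3, ?_⟩
    have h4 : h.rH c hc • (h.rH c hc)⁻¹ • h.v0 = h.v0 := smul_inv_smul _ _
    exact h4

/-- `k ≥ 2` at `v0`, from the form of `Co.jay` -/
theorem big_v0 (hN : NTr V Z) (hk : ∀ m : h.MF, ∃ x : h.MF, ∀ c : F, x + c • m ∉ h.Eb) :
    ∃ x y : h.MF, ∀ f g : F, h.al0 (f • x + g • y) = 1 → f = 0 ∧ g = 0 := by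
  obtain ⟨m, hm⟩ := hk 0
  have hm0 : m ∉ h.Eb := by
    have h1 := hm 0
    rwa [smul_zero, add_zero] at h1
  obtain ⟨x, hx⟩ := hk m
  refine ⟨m, x, fun f g h1 => ?_⟩
  rw [h.al0_one hN] at h1
  have hg : g = 0 := by
    by_contra hg
    apply hx (g⁻¹ * f)
    have h2 := h.Eb.smul_mem g⁻¹ h1
    rw [smul_add, smul_smul, smul_smul, inv_mul_cancel₀ hg, one_smul, add_comm] at h2
    exact h2
  subst hg
  rw [zero_smul, add_zero] at h1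
  refine ⟨?_, rfl⟩
  by_contra hf
  apply hm0
  have h2 := h.Eb.smul_mem f⁻¹ h1
  rwa [smul_smul, inv_mul_cancel₀ hf, one_smul] at h2

end Cfsg.Agent.Omega.NO3S.OneQ.Co

end

section


/-!
# NO-3S, `OneSz` (`q ≥ 4`, `n = 1`), case (N): coplanar lines (bb OMEGA #20317 (G))

`M ≠ V` is a line on `Z` in `I = IV V Z` (`l`, `m` coplanar), `p ≠ Z` a point of `M`.

* `One.cop_cover` : the elements of `X_l` are realised on `V` by elements of `X_l` centralising `p`;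
* `One.cop_comm` : `[W_Y, W_p] ≤ W_Y ∩ W_p`, `Y` a point of `V`;
* `Co.cop_swap` : the swap, centralising `p`; `Co.cop_al` : `al (fm u)` is the operator of `g u g⁻¹ ∈ W_Y ∩ W_p`;
* **`Co.cop_A`** : `[A_l, A_m] ≤ α_l(Ī_m)`; **`Co.cop_M`** : `α_l(Ī_m) ≤ A_m`; **`Co.cop_fix`** : `[Ī_m, α_l(Ī_m)] = 0`;
* **`Co.cop_pt`** : an element of `A_l ∩ A_m` lies in `A_r` for all lines `r` on `Z` in the plane.
-/

set_option autoImplicit false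
set_option linter.unusedSectionVars false

namespace Cfsg.Agent.Omega.NO3S.OneQ

open Subgroup Cfsg.Agent.Omega.NO3S.PT Cfsg.Agent.Omega.NoFF.Basic
open scoped Pointwise

universe u

variable {G : Type u} [Group G]

namespace One

variable [Finite G] {S : Sylow 2 G} {B P V Z : Subgroup G} (h : One S B P V Z)
include h

section

variable {M p : Subgroup G} (hM : IsCj V M) (hZM : Z ≤ M) (hMV : M ≠ V) (hMI : M ≤ IV V Z)
  (hp : IsCj Z p) (hpM : p ≤ M) (hpZ : p ≠ Z)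
include hM hZM hMV hMI hp hpM hpZ

theorem cop_not {u : G} (hu : u ∈ p) (hu1 : u ≠ 1) : u ∉ V := fun e =>
  hpZ (h.pl.pts_eq hp h.pl.isCj_self hu (h.inf_line hM hZM hMV hMI e (hpM hu)) hu1)

/-- an element of `X_l` which commutes with one element of the point `p` centralises `p` -/
theorem cop_cent {x u : G} (hx : x ∈ XV V Z) (hu : u ∈ p) (hu1 : u ≠ 1) (hxu : x * u = u * x) :
    ∀ w ∈ p, x * w = w * x := by
  intro w hw
  have hxn := h.pl.norm_of_comm hp hu hu1 hxu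
  have h1 : x * w * x⁻¹ * w⁻¹ ∈ p := p.mul_mem ((mem_normalizer_iff.1 hxn _).1 hw) (p.inv_mem hw)
  have h2 := h.pl.XV_act hx (hMI (hpM hw))
  by_contra hne
  refine h.cop_not hM hZM hMV hMI hp hpM hpZ h1 (fun e => hne ?_) h2
  rwa [mul_inv_eq_one, mul_inv_eq_iff_eq_mul] at e

/-- the elements of `X_l` are realised on `V` by elements of `X_l` centralising `p` -/
theorem cop_cover {g : G} (hg : g ∈ XV V Z) :
    ∃ x ∈ XV V Z, (∀ w ∈ p, x * w = w * x) ∧ x * g⁻¹ ∈ centralizer (V : Set G) := by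
  obtain ⟨u, hu, hu1⟩ := h.pl.pt_ne_bot hp
  obtain ⟨x, hx, hxu, hxg⟩ := h.pl.F2_cover h.hf h.hO (hMI (hpM hu)) (h.cop_not hM hZM hMV hMI hp hpM hpZ hu hu1) hg
  exact ⟨x, hx, h.cop_cent hM hZM hMV hMI hp hpM hpZ hx hu hu1 hxu, hxg⟩

/-- `Y` and `p` are collinear -/
theorem cop_col {Y : Subgroup G} (hY : Pnt V Z Y) : ∃ N, IsCj V N ∧ N ≤ V ⊔ M ∧ Y ≤ N ∧ p ≤ N := by
  have hpl := h.plg_of hM hZM hMV hMI
  have hne : Y ≠ p := by
    rintro rfl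
    obtain ⟨u, hu, hu1⟩ := h.pl.pt_ne_bot hp
    exact h.cop_not hM hZM hMV hMI hp hpM hpZ hu hu1 (hY.le hu)
  exact hpl.col Y p hY.cj hp (hY.le.trans le_sup_left) (hpM.trans le_sup_right) hne

/-- `[W_Y, W_p] ≤ W_Y ∩ W_p` -/
theorem cop_comm {Y : Subgroup G} (hY : Pnt V Z Y) {a b : G} (ha : a ∈ ws V Y) (hb : b ∈ ws V p) :
    a * b * a⁻¹ * b⁻¹ ∈ ws V Y ⊓ ws V p := by
  obtain ⟨N, hN, -, hYN, hpN⟩ := h.cop_col hM hZM hMV hMI hp hpM hpZ hY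
  have h1 := (mem_normalizer_iff.1 (h.W_norm_line hN hpN hY.cj hYN ha) b).1 hb
  have h2 := (mem_normalizer_iff.1 (h.W_norm_line hN hYN hp hpN hb) a⁻¹).1 (inv_mem ha)
  refine ⟨?_, (ws V p).mul_mem h1 ((ws V p).inv_mem hb)⟩
  have e : a * b * a⁻¹ * b⁻¹ = a * (b * a⁻¹ * b⁻¹) := by group
  rw [e]
  exact mul_mem ha h2

theorem cop_IV : ws V Z ⊓ ws V p = IV M Z := h.IV_line hM h.pl.isCj_self hZM hp hpM hpZ.symm

omit hZM hMV hMI hpZ in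
theorem cop_C : ws V p ≤ centralizer (M : Set G) := h.ws_le_line hM hp hpM

end

end One

namespace Co

variable [Finite G] {F : Type*} [Field F] [CharP F 2] {S : Sylow 2 G} {B P V Z : Subgroup G} (h : Co F S B P V Z)

include h in
theorem W_line_C {M p : Subgroup G} (hM : IsCj V M) (hZM : Z ≤ M) (hp : IsCj Z p) (hpM : p ≤ M) :
    ws V p ≤ centralizer (Z : Set G) := (h.one.ws_le_line hM hp hpM).trans (centralizer_le hZM)

/-- `W_p ≤ hat` -/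
theorem W_line_hat {M p : Subgroup G} (hM : IsCj V M) (hZM : Z ≤ M) (hp : IsCj Z p) (hpM : p ≤ M) :
    ws V p ≤ h.hat := (h.W_line_C hM hZM hp hpM).trans h.C_le_hat

section

variable {M p : Subgroup G} (hM : IsCj V M) (hZM : Z ≤ M) (hMV : M ≠ V) (hMI : M ≤ IV V Z)
  (hp : IsCj Z p) (hpM : p ≤ M) (hpZ : p ≠ Z)
include hM hZM hMV hMI hp hpM hpZ

/-- the swap, centralising `p` -/
theorem cop_swap : ∃ g ∈ XV V Z, (∀ w ∈ p, g * w = w * g) ∧ (∀ x y, g * h.e x y * g⁻¹ = h.e y x) ∧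
    g * h.sw⁻¹ ∈ yl V Z := by
  obtain ⟨g, hg, hgp, hgV⟩ := h.one.cop_cover hM hZM hMV hMI hp hpM hpZ h.sw_XV
  refine ⟨g, hg, hgp, fun x y => ?_, ?_⟩
  · have e : g * h.e x y * g⁻¹ = (g * h.sw⁻¹) * (h.sw * h.e x y * h.sw⁻¹) * (g * h.sw⁻¹)⁻¹ := by group
    rw [e, h.sw_act, h.comm_e hgV]
  · rw [← h.XV_cent]
    exact ⟨(XV V Z).mul_mem hg ((XV V Z).inv_mem h.sw_XV), hgV⟩

/-- `al (fm u)` is the operator of `g u g⁻¹` -/
theorem cop_al (hN : NTr V Z) : ∃ g ∈ XV V Z, (∀ w ∈ p, g * w = w * g) ∧ PT.cj g Z = h.Yp ∧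
    ∀ u (hu : u ∈ ws V Z), ∃ hg' : g * u * g⁻¹ ∈ ws V h.Yp,
      h.al (h.fm ⟨u, hu⟩) = h.rp ⟨g * u * g⁻¹, h.W_hat h.pY hg'⟩ := by
  obtain ⟨g, hg, hgp, hga, hgy⟩ := h.cop_swap hM hZM hMV hMI hp hpM hpZ
  have hgZ := h.cj_swap hga
  refine ⟨g, hg, hgp, hgZ, fun u hu => ?_⟩
  have hg' : g * u * g⁻¹ ∈ ws V h.Yp := by
    rw [← hgZ, ws_cj]
    exact conj_mem_cj hu
  refine ⟨hg', ?_⟩
  rw [h.al_fm hN, ag]
  have ha := h.sw_W hu
  have h1 := h.yl_A hgy ha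
  have h2 := h.hat_mul_inv (h.C_le_hat (h.yl_C hgy))
  have e1 : (⟨g * u * g⁻¹, h.W_hat h.pY hg'⟩ : h.hat) =
      ⟨g * h.sw⁻¹, h.C_le_hat (h.yl_C hgy)⟩ * ⟨h.sw * u * h.sw⁻¹, h.W_hat h.pY ha⟩ *
        ⟨(g * h.sw⁻¹)⁻¹, inv_mem (h.C_le_hat (h.yl_C hgy))⟩ := Subtype.ext (by
    show g * u * g⁻¹ = g * h.sw⁻¹ * (h.sw * u * h.sw⁻¹) * (g * h.sw⁻¹)⁻¹
    group)
  have e2 : h.rp ⟨g * u * g⁻¹, h.W_hat h.pY hg'⟩ = h.rp ⟨h.sw * u * h.sw⁻¹, h.W_hat h.pY ha⟩ := by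
    rw [e1, map_mul, map_mul, h1, mul_assoc, h2, mul_one]
  exact e2.symm

/-- **`α_l(Ī_m) ≤ A_m`** -/
theorem cop_M (hN : NTr V Z) {u : G} (hu : u ∈ IV M Z) (huZ : u ∈ ws V Z) :
    ∃ a, ∃ ha : a ∈ ws V h.Yp, ∃ ha' : a ∈ ws V p,
      h.al (h.fm ⟨u, huZ⟩) = h.rp ⟨a, h.W_hat h.pY ha⟩ ∧
        h.al (h.fm ⟨u, huZ⟩) = h.rp ⟨a, h.W_line_hat hM hZM hp hpM ha'⟩ := by
  obtain ⟨g, hg, hgp, hgZ, hal⟩ := h.cop_al hM hZM hMV hMI hp hpM hpZ hN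
  obtain ⟨hg', e⟩ := hal u huZ
  have hup : u ∈ ws V p := by
    rw [← h.one.cop_IV hM hZM hMV hMI hp hpM hpZ] at hu
    exact hu.2
  have hgc : PT.cj g p = p := cj_eq_iff.2 (centralizer_le_normalizer _ (mem_centralizer_iff.2 fun w hw => (hgp w hw).symm))
  have h2 : g * u * g⁻¹ ∈ ws V p := by
    have := conj_mem_cj (g := g) hup
    rwa [← ws_cj, hgc] at this
  exact ⟨_, hg', h2, e, e⟩

/-- `W_Y ∩ W_p` gives `α_l(Ī_m)` -/
theorem cop_M' (hN : NTr V Z) {a : G} (ha : a ∈ ws V h.Yp) (ha' : a ∈ ws V p) :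
    ∃ u ∈ IV M Z, ∃ huZ : u ∈ ws V Z, h.al (h.fm ⟨u, huZ⟩) = h.rp ⟨a, h.W_hat h.pY ha⟩ := by
  obtain ⟨g, hg, hgp, hgZ, hal⟩ := h.cop_al hM hZM hMV hMI hp hpM hpZ hN
  have hgc : PT.cj g p = p := cj_eq_iff.2 (centralizer_le_normalizer _ (mem_centralizer_iff.2 fun w hw => (hgp w hw).symm))
  have h1 : g⁻¹ * a * g ∈ ws V Z := by
    rw [← hgZ, ws_cj, mem_cj] at ha
    exact ha
  have h2 : g⁻¹ * a * g ∈ ws V p := by
    rw [← hgc, ws_cj, mem_cj] at ha'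
    exact ha'
  refine ⟨_, ?_, h1, ?_⟩
  · rw [← h.one.cop_IV hM hZM hMV hMI hp hpM hpZ]
    exact ⟨h1, h2⟩
  · obtain ⟨hg', e⟩ := hal _ h1
    rw [e]
    congr 1
    apply Subtype.ext
    show g * (g⁻¹ * a * g) * g⁻¹ = a
    group

/-- **`[A_l, A_m] ≤ α_l(Ī_m)`** -/
theorem cop_A (hN : NTr V Z) {a b : G} (ha : a ∈ ws V h.Yp) (hb : b ∈ ws V p) :
    ∃ u ∈ IV M Z, ∃ huZ : u ∈ ws V Z, ∃ hab : a * b * a⁻¹ * b⁻¹ ∈ ws V h.Yp,
      h.al (h.fm ⟨u, huZ⟩) = h.rp ⟨a * b * a⁻¹ * b⁻¹, h.W_hat h.pY hab⟩ := by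
  have h1 := h.one.cop_comm hM hZM hMV hMI hp hpM hpZ h.pY ha hb
  obtain ⟨u, hu, huZ, e⟩ := h.cop_M' hM hZM hMV hMI hp hpM hpZ hN h1.1 h1.2
  exact ⟨u, hu, huZ, h1.1, e⟩

/-- **`[Ī_m, α_l(Ī_m)] = 0`** -/
theorem cop_fix (hN : NTr V Z) {u u' : G} (hu : u ∈ IV M Z) (huZ : u ∈ ws V Z) (hu' : u' ∈ IV M Z)
    (huZ' : u' ∈ ws V Z) : h.al (h.fm ⟨u, huZ⟩) (h.fm ⟨u', huZ'⟩) = h.fm ⟨u', huZ'⟩ := by
  obtain ⟨a, ha, ha', -, e⟩ := h.cop_M hM hZM hMV hMI hp hpM hpZ hN hu huZ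
  rw [e]
  have hup : u' ∈ ws V p := by
    rw [← h.one.cop_IV hM hZM hMV hMI hp hpM hpZ] at hu'
    exact hu'.2
  have e2 : h.rp ⟨a, h.W_line_hat hM hZM hp hpM ha'⟩ (h.fm ⟨u', huZ'⟩) = _ :=
    h.rp_fm' (h.W_line_hat hM hZM hp hpM ha') huZ'
  rw [e2]
  congr 1
  apply Subtype.ext
  show a * u' * a⁻¹ = u'
  rw [h.one.comm_W hp ha' hup, mul_inv_cancel_right]

/-- **an element of `A_l ∩ A_m` lies in `A_r` for all lines `r` on `Z` in the plane** -/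
theorem cop_pt {a b : G} (ha : a ∈ ws V h.Yp) (hb : b ∈ ws V p)
    (hab : h.rp ⟨a, h.W_hat h.pY ha⟩ = h.rp ⟨b, h.W_line_hat hM hZM hp hpM hb⟩) {R r : Subgroup G} (hR : IsCj V R)
    (hZR : Z ≤ R) (hRQ : R ≤ V ⊔ M) (hr : IsCj Z r) (hrR : r ≤ R) (hrZ : r ≠ Z) :
    ∃ c, ∃ hc : c ∈ ws V r, h.rp ⟨c, h.W_line_hat hR hZR hr hrR hc⟩ = h.rp ⟨a, h.W_hat h.pY ha⟩ := by
  by_cases hRV : R = V
  · subst hRV
    obtain ⟨k, hk, rfl⟩ := h.one.move h.one.self h.pY ⟨hr, hrR⟩ h.Yp_ne hrZ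
    have hc : k * a * k⁻¹ ∈ ws R (PT.cj k h.Yp) := by rw [ws_cj]; exact conj_mem_cj ha
    refine ⟨_, hc, ?_⟩
    have hkh : k ∈ h.hat := h.C_le_hat (kx_le_cent hk)
    have h1 := h.rp_one_of hk hkh
    have h2 := h.hat_mul_inv hkh
    have e1 : (⟨k * a * k⁻¹, h.W_line_hat hR hZR hr hrR hc⟩ : h.hat) =
        ⟨k, hkh⟩ * ⟨a, h.W_hat h.pY ha⟩ * ⟨k⁻¹, inv_mem hkh⟩ := rfl
    rw [h1, one_mul] at h2
    rw [e1, map_mul, map_mul, h1, h2, one_mul, mul_one]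
  have hRI : R ≤ IV V Z := hRQ.trans (h.one.Q_le_I hM hZM hMV hMI)
  obtain ⟨u, hu, hu1⟩ := h.one.pl.pt_ne_bot hr
  have huV := h.one.cop_not hR hZR hRV hRI hr hrR hrZ hu hu1
  obtain ⟨k, hk, hkV, huk⟩ := h.one.cover hM hZM hMV hMI h.pY h.Yp_ne (hRQ (hrR hu)) huV
  have hkZ : PT.cj k Z = Z := cj_eq_iff.2 (centralizer_le_normalizer _ (centralizer_le h.one.pl.ZV hkV))
  have hrk : r ≤ PT.cj k M := Pla.pt_le h.one (hM.cj k) hr hu hu1 huk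
  have hr' : PT.cj k⁻¹ r ≤ M := by rw [cj_le_iff, inv_inv]; exact hrk
  have hrZ' : PT.cj k⁻¹ r ≠ Z := fun e => hrZ (by rw [← hkZ, ← e, cj_cj, mul_inv_cancel, cj_one])
  obtain ⟨j, hj, hje⟩ := h.one.move_line hM h.one.pl.isCj_self hZM hp hpM (hr.cj k⁻¹) hr' hpZ hrZ'
  have hjh : j ∈ h.hat := h.C_le_hat (kx_le_cent hj)
  have hkh : k ∈ h.hat := h.C_le_hat (centralizer_le h.one.pl.ZV hkV)
  have hb' : j * b * j⁻¹ ∈ ws V (PT.cj k⁻¹ r) := by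
    rw [← hje, ws_cj]
    exact conj_mem_cj hb
  have hc : k * (j * b * j⁻¹) * k⁻¹ ∈ ws V r := by
    have := conj_mem_cj (g := k) hb'
    rwa [← ws_cj, cj_cj, mul_inv_cancel, cj_one] at this
  refine ⟨_, hc, ?_⟩
  have hky : k ∈ yl V Z := mem_yl_of h.pY hk hkV
  have h1 := h.rp_one_of hj hjh
  have h1' := h.hat_mul_inv hjh
  rw [h1, one_mul] at h1'
  have h2 := h.yl_A hky ha
  have h3 := h.hat_mul_inv hkh
  have e1 : (⟨k * (j * b * j⁻¹) * k⁻¹, h.W_line_hat hR hZR hr hrR hc⟩ : h.hat) =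
      ⟨k, hkh⟩ * (⟨j, hjh⟩ * ⟨b, h.W_line_hat hM hZM hp hpM hb⟩ * ⟨j⁻¹, inv_mem hjh⟩) * ⟨k⁻¹, inv_mem hkh⟩ := rfl
  rw [e1, map_mul, map_mul, map_mul, map_mul, h1, h1', one_mul, mul_one, ← hab, h2, mul_assoc, h3, mul_one]

end

end Co

end Cfsg.Agent.Omega.NO3S.OneQ

end

section


/-!
# NO-3S, `OneSz` (`q ≥ 4`, `n = 1`), case (N), `D_Z` arbitrary: coplanar points in `MF`

* `Co.rad_line_eq` : lines on `Z` with a common element outside `Z` modulo `rd` are equal;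
* **`Co.line_le_I_of_Ib`** : `c v0 ∈ Ī` implies `V^c ≤ I_V`;
* `Co.copA0`, `Co.copF0`, `Co.copL0` : the fields of `Sg.T.Cop` at `v0`;
* `Loc.toCop` : `Sg.T.Cop` from its form at `v0`; **`Co.cop`**.
-/

set_option autoImplicit false
set_option linter.unusedSectionVars false

namespace Cfsg.Agent.Omega.NO3S.OneQ

open Subgroup Cfsg Cfsg.Agent.Omega.NO3S.PT Cfsg.Agent.Omega.NoFF.Basic
open scoped Pointwise

universe u

namespace Co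

variable {G : Type u} [Group G] [Finite G] {F : Type*} [Field F] [CharP F 2] {S : Sylow 2 G} {B P V Z : Subgroup G}
  (h : Co F S B P V Z)

/-- the vector of an element of a line -/
theorem fm_line {c : G} (hc : c ∈ centralizer (Z : Set G)) (x y : F) (hW : c * h.e x y * c⁻¹ ∈ ws V Z) :
    h.fm ⟨c * h.e x y * c⁻¹, hW⟩ = y • h.rp ⟨c, h.C_le_hat hc⟩ h.v0 := by
  have e : h.rp ⟨c, h.C_le_hat hc⟩ (h.fm ⟨h.e x y, h.W_V x y⟩) = _ := h.rp_fm' (h.C_le_hat hc) (h.W_V x y)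
  rw [← map_smul, ← h.fm_e x y, e]

theorem rp_inv_apply {c : G} (hc : c ∈ h.hat) (m : h.MF) : h.rp ⟨c⁻¹, inv_mem hc⟩ (h.rp ⟨c, hc⟩ m) = m := by
  rw [← Module.End.mul_apply, ← map_mul]
  have e : (⟨c⁻¹, inv_mem hc⟩ : h.hat) * ⟨c, hc⟩ = 1 := Subtype.ext (inv_mul_cancel c)
  rw [e, map_one]; rfl

theorem rp_mul_apply {c d : G} (hc : c ∈ h.hat) (hd : d ∈ h.hat) (m : h.MF) :
    h.rp ⟨c * d, mul_mem hc hd⟩ m = h.rp ⟨c, hc⟩ (h.rp ⟨d, hd⟩ m) := by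
  rw [← Module.End.mul_apply, ← map_mul]; rfl

include h in
/-- two lines on `Z` with the same point of `MF` -/
theorem rad_line_eq [Finite F] (hN : NTr V Z) {L M : Subgroup G} (hL : IsCj V L) (hZL : Z ≤ L) (hM : IsCj V M)
    (hZM : Z ≤ M) {l m : G} (hl : l ∈ L) (hlZ : l ∉ Z) (hm : m ∈ M) (hlm : l * m⁻¹ ∈ rd V Z) : L = M := by
  obtain ⟨c, hc, rfl⟩ := h.line_eq hL hZL
  obtain ⟨d, hd, rfl⟩ := h.line_eq hM hZM
  have hlW := h.one.line_le_ws hL hZL hl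
  have hmW := h.one.line_le_ws hM hZM hm
  obtain ⟨x, y, e1⟩ := (h.mem_V _).1 (mem_cj.1 hl)
  obtain ⟨x', y', e2⟩ := (h.mem_V _).1 (mem_cj.1 hm)
  have e1' : l = c * h.e x y * c⁻¹ := by rw [e1]; group
  have e2' : m = d * h.e x' y' * d⁻¹ := by rw [e2]; group
  have hy : y ≠ 0 := by
    rintro rfl
    apply hlZ
    rw [e1', (mem_centralizer_iff.1 hc _ (h.e_memZ x)).symm, mul_inv_cancel_right]
    exact h.e_memZ x
  subst e1'
  subst e2'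
  have h1 := (h.fm_eq hlW hmW).2 hlm
  rw [h.fm_line hc, h.fm_line hd] at h1
  have hy' : y' ≠ 0 := by
    rintro rfl
    rw [zero_smul] at h1
    rcases smul_eq_zero.1 h1 with e | e
    · exact hy e
    · have h2 := h.rp_inv_apply (h.C_le_hat hc) h.v0
      rw [e, map_zero] at h2
      exact h.v0_ne h2.symm
  have h2 : h.rp ⟨c⁻¹ * d, h.C_le_hat (mul_mem (inv_mem hc) hd)⟩ h.v0 = (y'⁻¹ * y) • h.v0 := by
    have h3 := h.rp_mul_apply (inv_mem (h.C_le_hat hc)) (h.C_le_hat hd) h.v0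
    have h4 : h.rp ⟨d, h.C_le_hat hd⟩ h.v0 = (y'⁻¹ * y) • h.rp ⟨c, h.C_le_hat hc⟩ h.v0 := by
      rw [mul_smul, h1, smul_smul, inv_mul_cancel₀ hy', one_smul]
    rw [h4, map_smul, h.rp_inv_apply] at h3
    exact h3
  have h3 := cj_eq_iff.2 (h.norm_of_smul_N hN (mul_mem (inv_mem hc) hd) h2)
  calc PT.cj c V = PT.cj c (PT.cj (c⁻¹ * d) V) := by rw [h3]
    _ = PT.cj d V := by rw [cj_cj, mul_inv_cancel_left]

include h in
/-- `[Y_l, D_Z] ≤ I` -/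
theorem yl_I_dd [Finite F] (hN : NTr V Z) {k d : G} (hk : k ∈ yl V Z) (hd : d ∈ dd V Z Z) :
    k * d * k⁻¹ * d⁻¹ ∈ IV V Z := by
  let E : Subgroup G :=
    { carrier := {g | g ∈ centralizer (V : Set G) ∧ ∀ w ∈ dd V Z Z, g * w * g⁻¹ * w⁻¹ ∈ IV V Z}
      one_mem' := ⟨one_mem _, fun c _ => by
        have : (1 : G) * c * 1⁻¹ * c⁻¹ = 1 := by group
        rw [this]; exact one_mem _⟩
      mul_mem' := by
        rintro a b ⟨ha, ha'⟩ ⟨hb, hb'⟩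
        refine ⟨mul_mem ha hb, fun c hc => ?_⟩
        have e : a * b * c * (a * b)⁻¹ * c⁻¹ = a * (b * c * b⁻¹ * c⁻¹) * a⁻¹ * (a * c * a⁻¹ * c⁻¹) := by group
        rw [e]
        exact (IV V Z).mul_mem
          ((mem_normalizer_iff.1 (normalizer_le_IV V Z (centralizer_le_normalizer _ ha)) _).1 (hb' c hc)) (ha' c hc)
      inv_mem' := by
        rintro a ⟨ha, ha'⟩
        refine ⟨inv_mem ha, fun c hc => ?_⟩
        have e : a⁻¹ * c * a⁻¹⁻¹ * c⁻¹ = a⁻¹ * (a * c * a⁻¹ * c⁻¹)⁻¹ * a⁻¹⁻¹ := by group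
        rw [e]
        exact (mem_normalizer_iff.1 (normalizer_le_IV V Z (centralizer_le_normalizer _ (inv_mem ha))) _).1
          ((IV V Z).inv_mem (ha' c hc)) }
  have key : yl V Z ≤ E := by
    refine sSup_le ?_
    rintro _ ⟨Y, hY, rfl⟩
    rintro k ⟨hk, hkV⟩
    exact ⟨hkV, fun w hw => h.one.hJ (h.w1_le_ee hN) Y hY k hk hkV w (dd_le_DL h.one.self hw)⟩
  exact (key hk).2 d hd

include h in
/-- **`c v0 ∈ Ī` implies `V^c ≤ I_V`** -/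
theorem line_le_I_of_Ib [Finite F] (hN : NTr V Z) {ζ : F} (hζ0 : ζ ≠ 0) (hζ : ζ ≠ 1) {c : G}
    (hc : c ∈ centralizer (Z : Set G)) (hI : h.rp ⟨c, h.C_le_hat hc⟩ h.v0 ∈ h.Ib) : PT.cj c V ≤ IV V Z := by
  have hZ := h.one.self.cj
  have hcZ : PT.cj c Z = Z := cj_eq_iff.2 (centralizer_le_normalizer _ hc)
  have hZM : Z ≤ PT.cj c V := by
    nth_rewrite 1 [← hcZ]
    exact cj_le_cj.2 h.one.pl.ZV
  have hM : IsCj V (PT.cj c V) := ⟨c, rfl⟩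
  obtain ⟨u, hu, hue⟩ := hI
  have huW := h.one.I_le_W' hu
  set m := c * h.e 0 1 * c⁻¹ with hm
  have hmM : m ∈ PT.cj c V := conj_mem_cj (h.e_memV 0 1)
  have hmW : m ∈ ws V Z := h.one.line_le_ws hM hZM hmM
  have hmZ : m ∉ Z := by
    intro e
    have h1 : h.e 0 1 ∈ Z := by
      have h2 : c⁻¹ * m * c = h.e 0 1 := by rw [hm]; group
      rw [← h2, ← mem_cj, hcZ]; exact e
    rw [h.e_memZ_iff] at h1
    exact one_ne_zero h1
  have h1 : h.fm ⟨m, hmW⟩ = h.fm ⟨u, huW⟩ := by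
    rw [hue]
    have := h.fm_line hc 0 1 hmW
    rw [one_smul] at this
    exact this
  have hr : m * u⁻¹ ∈ rd V Z := (h.fm_eq hmW huW).1 h1
  have hMI : PT.cj c V ≤ IV (PT.cj c V) Z := by
    obtain ⟨S', C', R, h'⟩ := h.one.flag hM hZ hZM
    exact h'.pl.V_le_IV
  have hV : IsCj V V := ⟨1, (cj_one V).symm⟩
  by_cases huV : u ∈ V
  · have h2 := h.rad_line_eq hN hM hZM hV h.one.pl.ZV hmM hmZ huV hr
    rw [h2]; exact h.one.pl.V_le_IV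
  obtain ⟨τ, hτ⟩ := h.exists_tor hζ0
  obtain ⟨x, hxX, hxu, hxτ⟩ := h.one.pl.F2_cover h.one.hf h.one.hO hu huV hτ.mem
  obtain ⟨r, hrdef⟩ : ∃ r, r = m * u⁻¹ := ⟨_, rfl⟩
  rw [← hrdef] at hr
  have hmr : m = r * u := by rw [hrdef]; group
  have hτZ : τ ∈ normalizer (Z : Set G) := hτ.norm_Z hζ0
  have hxN : x ∈ normalizer (Z : Set G) := by
    have e : x = x * τ⁻¹ * τ := by group
    rw [e]
    exact mul_mem (centralizer_le_normalizer _ (centralizer_le h.one.pl.ZV hxτ)) hτZ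
  have hxZ : PT.cj x Z = Z := cj_eq_iff.2 hxN
  -- `x m x⁻¹ = r' m`
  have hr' : x * r * x⁻¹ * r⁻¹ ∈ rd V Z :=
    (rd V Z).mul_mem ((mem_normalizer_iff.1 (norm_rd V Z hxN) r).1 hr) ((rd V Z).inv_mem hr)
  have e1 : x * m * x⁻¹ = x * r * x⁻¹ * r⁻¹ * m := by
    have e2 : x * u * x⁻¹ = u := by rw [hxu]; group
    calc x * m * x⁻¹ = x * r * x⁻¹ * (x * u * x⁻¹) := by rw [hmr]; group
      _ = x * r * x⁻¹ * u := by rw [e2]
      _ = x * r * x⁻¹ * r⁻¹ * m := by rw [hmr]; group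
  have hxm : x * m * x⁻¹ ∈ PT.cj x (PT.cj c V) := conj_mem_cj hmM
  have h2 : PT.cj c V = PT.cj x (PT.cj c V) := by
    refine h.rad_line_eq hN hM hZM (hM.cj x) ?_ hmM hmZ hxm ?_
    · nth_rewrite 1 [← hxZ]
      exact cj_le_cj.2 hZM
    · have e2 : m * (x * m * x⁻¹)⁻¹ = (x * r * x⁻¹ * r⁻¹)⁻¹ := by rw [e1]; group
      rw [e2]; exact (rd V Z).inv_mem hr'
  rw [← h2] at hxm
  have h3 : x * r * x⁻¹ * r⁻¹ ∈ Z := by
    refine h.rd_flag hM hZ hZM ⟨hr', hMI ?_⟩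
    have e2 : x * r * x⁻¹ * r⁻¹ = x * m * x⁻¹ * m⁻¹ := by rw [e1]; group
    rw [e2]
    exact (PT.cj c V).mul_mem hxm ((PT.cj c V).inv_mem hmM)
  have hs : x * τ⁻¹ ∈ yl V Z := by
    rw [← h.XV_cent]
    exact ⟨(XV V Z).mul_mem hxX ((XV V Z).inv_mem hτ.mem), hxτ⟩
  have hrD : r ∈ dd V Z Z := h.rd_le_dd hN hr
  have h4 : τ * r * τ⁻¹ * r⁻¹ ∈ IV V Z := by
    have h5 := h.yl_I_dd hN ((yl V Z).inv_mem hs) hrD
    have h6 : (x * τ⁻¹)⁻¹ * (x * r * x⁻¹ * r⁻¹) * (x * τ⁻¹) = x * r * x⁻¹ * r⁻¹ := by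
      have h7 := mem_centralizer_iff.1 hxτ _ (h.one.pl.ZV h3)
      rw [mul_assoc, h7, inv_mul_cancel_left]
    have e2 : τ * r * τ⁻¹ * r⁻¹ = (x * τ⁻¹)⁻¹ * (x * r * x⁻¹ * r⁻¹) * (x * τ⁻¹) *
        ((x * τ⁻¹)⁻¹ * r * (x * τ⁻¹)⁻¹⁻¹ * r⁻¹) := by group
    rw [e2, h6]
    exact (IV V Z).mul_mem (h.one.pl.V_le_IV (h.one.pl.ZV h3)) h5
  have h5 : r ∈ IV V Z := h.semi (h.w1_le_ee hN) (h.nn_N hN) hτ hζ0 hζ le_rfl (fun τ ζ hτ' _ => h.Tor_norm_I hτ') hrD h4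
  have hmI : m ∈ IV V Z := by rw [hmr]; exact (IV V Z).mul_mem h5 hu
  by_cases hmV : m ∈ V
  · rw [h.line_eq_of_mem hM hV hZM h.one.pl.ZV hmM hmV hmZ]
    exact h.one.pl.V_le_IV
  · exact h.one.line_le_I hM hZM hmI hmV hmM

/-! ### the fields at `v0` -/

/-- `A0` is normalised by the stabiliser of the point -/
theorem sA0_cop [Finite F] (hN : NTr V Z) {x a : h.HH} {c : F} (hx : x • h.v0 = c • h.v0) (ha : a ∈ h.A0) :
    x * a * x⁻¹ ∈ h.A0 := by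
  obtain ⟨g, hg, rfl⟩ := h.exists_rH x
  obtain ⟨b, hb, rfl⟩ := h.mem_A0.1 ha
  have hgN := h.norm_of_smul_N hN hg hx
  have hbC := h.one.W_le_C h.pY hb
  have hY' : Pnt V Z (PT.cj g h.Yp) := h.pY.conj hgN
  have hgZ : PT.cj g Z = Z := cj_eq_iff.2 (centralizer_le_normalizer _ hg)
  have hne : PT.cj g h.Yp ≠ Z := fun e => h.Yp_ne (cj_inj.1 (e.trans hgZ.symm))
  obtain ⟨k, hk, hkY⟩ := h.one.move h.one.self hY' h.pY hne h.Yp_ne
  have h1 : k * (g * b * g⁻¹) * k⁻¹ ∈ ws V h.Yp := by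
    have h2 := conj_mem_cj (g := g) hb
    rw [← ws_cj] at h2
    have h3 := conj_mem_cj (g := k) h2
    rwa [← ws_cj, hkY] at h3
  refine h.mem_A0.2 ⟨_, h1, ?_⟩
  have hkC := kx_le_cent hk
  have e1 := h.rH_mul (mul_mem hkC (mul_mem (mul_mem hg hbC) (inv_mem hg))) (inv_mem hkC)
  have e2 := h.rH_mul hkC (mul_mem (mul_mem hg hbC) (inv_mem hg))
  have e3 := h.rH_mul (mul_mem hg hbC) (inv_mem hg)
  have e4 := h.rH_mul hg hbC
  have e5 : h.rH (k * (g * b * g⁻¹) * k⁻¹) (h.one.W_le_C h.pY h1) = h.rH g hg * h.rH b hbC * (h.rH g hg)⁻¹ := by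
    rw [e1, e2, e3, e4, h.rH_inv hg, h.rH_inv hkC, h.rH_K hk, one_mul, inv_one, mul_one]
  exact e5.symm

theorem A0_comm {a b : h.HH} (ha : a ∈ h.A0) (hb : b ∈ h.A0) : a * b = b * a := by
  obtain ⟨a', ha', rfl⟩ := h.mem_A0.1 ha
  obtain ⟨b', hb', rfl⟩ := h.mem_A0.1 hb
  have h1 := h.rH_mul (h.one.W_le_C h.pY ha') (h.one.W_le_C h.pY hb')
  have h2 := h.rH_mul (h.one.W_le_C h.pY hb') (h.one.W_le_C h.pY ha')
  rw [← h1, ← h2]
  exact h.rH_congr _ (h.one.comm_W h.pY.cj ha' hb')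

theorem lam_of_smul {x : h.HH} {t : F} (hx : x • h.v0 = t • h.v0) : x⁻¹ • h.v0 = t⁻¹ • h.v0 := by
  have ht : t ≠ 0 := by
    rintro rfl
    rw [zero_smul] at hx
    exact h.v0_ne ((smul_eq_zero_iff_eq x).1 hx)
  have h1 : h.v0 = t • x⁻¹ • h.v0 := by
    calc h.v0 = x⁻¹ • x • h.v0 := (inv_smul_smul x _).symm
      _ = t • x⁻¹ • h.v0 := by rw [hx, smul_comm]
  calc x⁻¹ • h.v0 = t⁻¹ • t • x⁻¹ • h.v0 := by rw [smul_smul t⁻¹, inv_mul_cancel₀ ht, one_smul]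
    _ = t⁻¹ • h.v0 := by rw [← h1]

/-- `Ī` is invariant under the stabiliser of the point -/
theorem sIb_cop [Finite F] (hN : NTr V Z) {x : h.HH} {c : F} {u : h.MF} (hx : x • h.v0 = c • h.v0) (hu : u ∈ h.Ib) :
    x • u ∈ h.Ib := by
  obtain ⟨g, hg, rfl⟩ := h.exists_rH x
  have hgN := h.norm_of_smul_N hN hg hx
  obtain ⟨u, hu, rfl⟩ := hu
  have h1 : g * u * g⁻¹ ∈ IV V Z := (mem_normalizer_iff.1 (normalizer_le_IV V Z hgN) _).1 hu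
  refine ⟨_, h1, ?_⟩
  rw [h.rH_smul]
  exact (h.rp_fm' (h.C_le_hat hg) (h.one.I_le_W' hu)).symm

section

variable [Finite F] (hN : NTr V Z) {ζ : F} (hζ0 : ζ ≠ 0) (hζ : ζ ≠ 1)
include hN hζ0 hζ

/-- the group data of `x v0 ∈ Ī`, `x v0 ∉ F v0` -/
theorem line_data {c : G} (hc : c ∈ centralizer (Z : Set G)) (hx : h.rH c hc • h.v0 ∈ h.Ib)
    (hne : ∀ t : F, h.rH c hc • h.v0 ≠ t • h.v0) : IsCj V (PT.cj c V) ∧ Z ≤ PT.cj c V ∧ PT.cj c V ≠ V ∧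
      PT.cj c V ≤ IV V Z ∧ IsCj Z (PT.cj c h.Yp) ∧ PT.cj c h.Yp ≤ PT.cj c V ∧ PT.cj c h.Yp ≠ Z ∧
        IV (PT.cj c V) Z = PT.cj c (IV V Z) := by
  have hcZ : PT.cj c Z = Z := cj_eq_iff.2 (centralizer_le_normalizer _ hc)
  refine ⟨⟨c, rfl⟩, ?_, ?_, h.line_le_I_of_Ib hN hζ0 hζ hc hx, h.pY.cj.cj c, cj_le_cj.2 h.pY.le, ?_, ?_⟩
  · nth_rewrite 1 [← hcZ]
    exact cj_le_cj.2 h.one.pl.ZV
  · intro e
    have h1 : h.rH c hc • h.v0 ∈ h.lam := by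
      have h2 : c * h.e 0 1 * c⁻¹ ∈ V := (mem_normalizer_iff.1 (cj_eq_iff.1 e) _).1 (h.e_memV 0 1)
      have h3 := h.fm_line hc 0 1 (h.one.V_le_W h.one.self h2)
      rw [one_smul] at h3
      rw [h.rH_smul, ← h3, h.fm_mem_lam]
      exact mem_sup_left h2
    obtain ⟨t, ht⟩ := Submodule.mem_span_singleton.1 h1
    exact hne t ht.symm
  · exact fun e1 => h.Yp_ne (cj_inj.1 (e1.trans hcZ.symm))
  · rw [← PB.Geom.IV_conj h.one.pl h.one.hf, hcZ]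

/-- `copA` at `v0` -/
theorem copA0 {x a b : h.HH} (hx : x • h.v0 ∈ h.Ib) (ha : a ∈ h.A0) (hb : x⁻¹ * b * x ∈ h.A0) :
    ∃ u, x⁻¹ • u ∈ h.Ib ∧ a * b * a⁻¹ * b⁻¹ = h.al0 u := by
  by_cases hlam : ∃ t : F, x • h.v0 = t • h.v0
  · obtain ⟨t, ht⟩ := hlam
    have h1 := h.sA0_cop hN ht hb
    have e : x * (x⁻¹ * b * x) * x⁻¹ = b := by group
    rw [e] at h1
    refine ⟨0, ?_, ?_⟩
    · rw [smul_zero]; exact zero_mem _
    · rw [h.A0_comm ha h1, mul_inv_cancel_right, mul_inv_cancel]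
      exact ((h.al0_one hN).2 (zero_mem _)).symm
  push Not at hlam
  obtain ⟨c, hc, rfl⟩ := h.exists_rH x
  obtain ⟨hM, hZM, hMV, hMI, hp, hpM, hpZ, hIc⟩ := h.line_data hN hζ0 hζ hc hx hlam
  obtain ⟨a', ha', rfl⟩ := h.mem_A0.1 ha
  obtain ⟨b', hb', e1⟩ := h.mem_A0.1 hb
  have hbW : c * b' * c⁻¹ ∈ ws V (PT.cj c h.Yp) := by rw [ws_cj]; exact conj_mem_cj hb'
  obtain ⟨u, hu, huZ, hab, e2⟩ := h.cop_A hM hZM hMV hMI hp hpM hpZ hN ha' hbW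
  have haC := h.one.W_le_C h.pY ha'
  have hb'C := h.one.W_le_C h.pY hb'
  have hbC : c * b' * c⁻¹ ∈ centralizer (Z : Set G) := mul_mem (mul_mem hc hb'C) (inv_mem hc)
  have e3 : b = h.rH (c * b' * c⁻¹) hbC := by
    rw [h.rH_mul (mul_mem hc hb'C) (inv_mem hc), h.rH_mul hc hb'C, h.rH_inv hc, ← e1]
    group
  refine ⟨h.fm ⟨u, huZ⟩, ?_, ?_⟩
  · rw [hIc, mem_cj] at hu
    refine ⟨_, hu, ?_⟩
    have h1 : (h.rH c hc)⁻¹ • h.fm ⟨u, huZ⟩ = h.rp ⟨c⁻¹, h.C_le_hat (inv_mem hc)⟩ (h.fm ⟨u, huZ⟩) := by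
      rw [← h.rH_inv hc]; rfl
    rw [h1]
    refine Eq.trans ?_ (h.rp_fm' (h.C_le_hat (inv_mem hc)) huZ).symm
    congr 1
    apply Subtype.ext
    show c⁻¹ * u * c = c⁻¹ * u * c⁻¹⁻¹
    rw [inv_inv]
  · refine h.HH_ext fun m => ?_
    rw [h.al0_smul, e2, e3, ← h.rH_mul haC hbC, ← h.rH_inv haC, ← h.rH_inv hbC, ← h.rH_mul (mul_mem haC hbC) (inv_mem haC),
      ← h.rH_mul (mul_mem (mul_mem haC hbC) (inv_mem haC)) (inv_mem hbC)]
    rfl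

/-- `copF` at `v0` -/
theorem copF0 {x : h.HH} {u u' : h.MF} (hx : x • h.v0 ∈ h.Ib) (hu : x⁻¹ • u ∈ h.Ib) (hu' : x⁻¹ • u' ∈ h.Ib) :
    h.al0 u • u' = u' := by
  by_cases hlam : ∃ t : F, x • h.v0 = t • h.v0
  · obtain ⟨t, ht⟩ := hlam
    have h1 := h.sIb_cop hN ht hu'
    rw [smul_inv_smul] at h1
    rw [h.al0_smul]
    exact h.al_Ib hN u h1
  push Not at hlam
  obtain ⟨c, hc, rfl⟩ := h.exists_rH x
  obtain ⟨hM, hZM, hMV, hMI, hp, hpM, hpZ, hIc⟩ := h.line_data hN hζ0 hζ hc hx hlam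
  have key : ∀ {u : h.MF}, (h.rH c hc)⁻¹ • u ∈ h.Ib → ∃ w, ∃ hw : w ∈ ws V Z, w ∈ IV (PT.cj c V) Z ∧ u = h.fm ⟨w, hw⟩ := by
    rintro u ⟨i, hi, hie⟩
    have hiW := h.one.I_le_W' hi
    refine ⟨c * i * c⁻¹, h.W_conj (centralizer_le_normalizer _ hc) hiW, ?_, ?_⟩
    · rw [hIc]; exact conj_mem_cj hi
    · have h1 : u = h.rH c hc • h.fm ⟨i, hiW⟩ := by rw [hie, smul_inv_smul]
      rw [h1]
      exact h.rp_fm' (h.C_le_hat hc) hiW
  obtain ⟨w, hw, hwI, rfl⟩ := key hu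
  obtain ⟨w', hw', hwI', rfl⟩ := key hu'
  rw [h.al0_smul]
  exact h.cop_fix hM hZM hMV hMI hp hpM hpZ hN hwI hw hwI' hw'

/-- `copL` at `v0` -/
theorem copL0 {x y c₀ : h.HH} {d e : F} (hx : x • h.v0 ∈ h.Ib) (hc₀ : c₀ ∈ h.A0) (hcx : x⁻¹ * c₀ * x ∈ h.A0)
    (he : e ≠ 0) (hy : h.v0 + d • x • h.v0 = e • y • h.v0) : y⁻¹ * c₀ * y ∈ h.A0 := by
  by_cases hlam : ∃ t : F, x • h.v0 = t • h.v0
  · obtain ⟨t, ht⟩ := hlam
    have h1 : y • h.v0 = (e⁻¹ * (1 + d * t)) • h.v0 := by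
      have h2 : h.v0 + d • x • h.v0 = (1 + d * t) • h.v0 := by rw [ht, smul_smul, add_smul, one_smul]
      rw [h2] at hy
      rw [mul_smul, hy, smul_smul, inv_mul_cancel₀ he, one_smul]
    have h2 := h.sA0_cop hN (h.lam_of_smul h1) hc₀
    rwa [inv_inv] at h2
  push Not at hlam
  obtain ⟨c, hc, rfl⟩ := h.exists_rH x
  obtain ⟨hM, hZM, hMV, hMI, hp, hpM, hpZ, hIc⟩ := h.line_data hN hζ0 hζ hc hx hlam
  obtain ⟨a, ha, rfl⟩ := h.mem_A0.1 hc₀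
  obtain ⟨b', hb', e1⟩ := h.mem_A0.1 hcx
  obtain ⟨r₀, hr₀, rfl⟩ := h.exists_rH y
  have haC := h.one.W_le_C h.pY ha
  have hb'C := h.one.W_le_C h.pY hb'
  have hbW : c * b' * c⁻¹ ∈ ws V (PT.cj c h.Yp) := by rw [ws_cj]; exact conj_mem_cj hb'
  have hbC : c * b' * c⁻¹ ∈ centralizer (Z : Set G) := mul_mem (mul_mem hc hb'C) (inv_mem hc)
  have e3 : h.rH a haC = h.rH (c * b' * c⁻¹) hbC := by
    rw [h.rH_mul (mul_mem hc hb'C) (inv_mem hc), h.rH_mul hc hb'C, h.rH_inv hc, ← e1]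
    group
  have hab : h.rp ⟨a, h.W_hat h.pY ha⟩ = h.rp ⟨c * b' * c⁻¹, h.W_line_hat hM hZM hp hpM hbW⟩ := by
    refine LinearMap.ext fun m => ?_
    have h1 : h.rH a haC • m = h.rH (c * b' * c⁻¹) hbC • m := by rw [e3]
    exact h1
  -- the line of `y v0`
  have hr₀Z : PT.cj r₀ Z = Z := cj_eq_iff.2 (centralizer_le_normalizer _ hr₀)
  have hR : IsCj V (PT.cj r₀ V) := ⟨r₀, rfl⟩
  have hZR : Z ≤ PT.cj r₀ V := by
    nth_rewrite 1 [← hr₀Z]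
    exact cj_le_cj.2 h.one.pl.ZV
  set n := h.e 0 1 * (c * h.e 0 d * c⁻¹) with hn
  have hcd : c * h.e 0 d * c⁻¹ ∈ PT.cj c V := conj_mem_cj (h.e_memV 0 d)
  have hcdW : c * h.e 0 d * c⁻¹ ∈ ws V Z := h.one.line_le_ws hM hZM hcd
  have hnW : n ∈ ws V Z := (ws V Z).mul_mem (h.W_V 0 1) hcdW
  have hnQ : n ∈ V ⊔ PT.cj c V := mul_mem (mem_sup_left (h.e_memV 0 1)) (mem_sup_right hcd)
  have hr1 : r₀ * h.e 0 e * r₀⁻¹ ∈ PT.cj r₀ V := conj_mem_cj (h.e_memV 0 e)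
  have hr1W : r₀ * h.e 0 e * r₀⁻¹ ∈ ws V Z := h.one.line_le_ws hR hZR hr1
  have hr1Z : r₀ * h.e 0 e * r₀⁻¹ ∉ Z := by
    intro h1
    have h1' : r₀ * h.e 0 e * r₀⁻¹ ∈ PT.cj r₀ Z := hr₀Z.symm ▸ h1
    have h2 := mem_cj.1 h1'
    have e4 : r₀⁻¹ * (r₀ * h.e 0 e * r₀⁻¹) * r₀ = h.e 0 e := by group
    rw [e4, h.e_memZ_iff] at h2
    exact he h2
  have hfm : h.fm ⟨r₀ * h.e 0 e * r₀⁻¹, hr1W⟩ = h.fm ⟨n, hnW⟩ := by
    rw [h.fm_line hr₀]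
    have h1 : h.fm ⟨n, hnW⟩ = h.fm ⟨h.e 0 1, h.W_V 0 1⟩ + h.fm ⟨c * h.e 0 d * c⁻¹, hcdW⟩ := by
      rw [← h.fm_mul]; rfl
    rw [h1, h.fm_e, one_smul, h.fm_line hc]
    exact hy.symm
  have hrd := (h.fm_eq hr1W hnW).1 hfm
  have hV : IsCj V V := ⟨1, (cj_one V).symm⟩
  have hRQ : PT.cj r₀ V ≤ V ⊔ PT.cj c V := by
    by_cases hnV : n ∈ V
    · rw [h.rad_line_eq hN hR hZR hV h.one.pl.ZV hr1 hr1Z hnV hrd]
      exact le_sup_left
    · obtain ⟨k, hk, hkV, hnk⟩ := h.one.cover hM hZM hMV hMI h.pY h.Yp_ne hnQ hnV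
      have hkZ : PT.cj k Z = Z := cj_eq_iff.2 (centralizer_le_normalizer _ (centralizer_le h.one.pl.ZV hkV))
      have hZk : Z ≤ PT.cj k (PT.cj c V) := by
        nth_rewrite 1 [← hkZ]
        exact cj_le_cj.2 hZM
      have hkR : PT.cj r₀ V = PT.cj k (PT.cj c V) := h.rad_line_eq hN hR hZR (hM.cj k) hZk hr1 hr1Z hnk hrd
      rw [hkR]
      intro w hw
      have hw' := mem_cj.1 hw
      have h1 := h.one.XV_I (yl_le_XV V Z (mem_yl_of h.pY hk hkV)) (hMI hw')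
      have e4 : w = k * (k⁻¹ * w * k) * k⁻¹ * (k⁻¹ * w * k)⁻¹ * (k⁻¹ * w * k) := by group
      rw [e4]
      exact mul_mem (mem_sup_left h1) (mem_sup_right hw')
  have hrr : IsCj Z (PT.cj r₀ h.Yp) := h.pY.cj.cj r₀
  have hrrZ : PT.cj r₀ h.Yp ≠ Z := fun e1 => h.Yp_ne (cj_inj.1 (e1.trans hr₀Z.symm))
  obtain ⟨c₁, hc₁, e4⟩ := h.cop_pt hM hZM hMV hMI hp hpM hpZ ha hbW hab hR hZR hRQ hrr (cj_le_cj.2 h.pY.le) hrrZ
  have hc₁C : c₁ ∈ centralizer (Z : Set G) := h.W_line_C hR hZR hrr (cj_le_cj.2 h.pY.le) hc₁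
  have e5 : h.rH a haC = h.rH c₁ hc₁C := by
    refine h.HH_ext fun m => ?_
    rw [h.rH_smul, h.rH_smul]
    exact (LinearMap.congr_fun e4 m).symm
  have hc₁' : r₀⁻¹ * c₁ * r₀ ∈ ws V h.Yp := by rw [ws_cj] at hc₁; exact mem_cj.1 hc₁
  refine h.mem_A0.2 ⟨_, hc₁', ?_⟩
  rw [e5, h.rH_mul (mul_mem (inv_mem hr₀) hc₁C) hr₀, h.rH_mul (inv_mem hr₀) hc₁C, h.rH_inv hr₀]

end

end Co

/-! ### the transport -/

namespace TIq.Loc

variable {F M H : Type*} [Field F] [AddCommGroup M] [Module F M] [Group H] [DistribMulAction H M]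
  [SMulCommClass H F M] {v0 : M} {A0 : Subgroup H} {I0 : Submodule F M} {al0 : M → H}
  (D : Loc F v0 A0 I0 al0)
include D

/-- **the record `Sg.T.Cop`** -/
theorem toCop
    (hA : ∀ {x a b : H}, x • v0 ∈ I0 → a ∈ A0 → x⁻¹ * b * x ∈ A0 → ∃ u, x⁻¹ • u ∈ I0 ∧ a * b * a⁻¹ * b⁻¹ = al0 u)
    (hF : ∀ {x : H} {u u' : M}, x • v0 ∈ I0 → x⁻¹ • u ∈ I0 → x⁻¹ • u' ∈ I0 → al0 u • u' = u')
    (hL : ∀ {x y c : H} {d e : F}, x • v0 ∈ I0 → c ∈ A0 → x⁻¹ * c * x ∈ A0 → e ≠ 0 →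
      v0 + d • x • v0 = e • y • v0 → y⁻¹ * c * y ∈ A0) :
    Sg.T.Cop F (LL F H v0) (AA F v0 A0) (II F (H := H) v0 I0) (AL F v0 al0) where
  copA := by
    intro l m hl hm hml a b ha hb
    obtain ⟨x, c, hc, h1, h2⟩ := D.exists_rep (l := l) hm
    obtain ⟨t, ht, hg⟩ := rr_spec F H hl
    rw [D.mem_II ht hg, h1] at hml
    have hx : x • v0 ∈ I0 := by
      have := I0.smul_mem c⁻¹ hml
      rwa [smul_smul, inv_mul_cancel₀ hc, one_smul] at this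
    rw [D.mem_AA_rr hl] at ha
    rw [D.mem_AA hc h2] at hb
    obtain ⟨g, hgd⟩ : ∃ g, g = rr F H v0 l := ⟨_, rfl⟩
    rw [← hgd] at ha hb h1 h2 hg
    have hb' : x⁻¹ * (g⁻¹ * b * g) * x ∈ A0 := by
      have e : (g * x)⁻¹ * b * (g * x) = x⁻¹ * (g⁻¹ * b * g) * x := by group
      rwa [e] at hb
    obtain ⟨u, hu, hue⟩ := hA hx ha hb'
    refine ⟨g • u, ?_, ?_⟩
    · rw [D.mem_II hc h2]
      have e : (g * x)⁻¹ • g • u = x⁻¹ • u := by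
        rw [smul_smul]
        congr 1
        group
      rw [e]; exact hu
    · rw [AL, ← hgd, inv_smul_smul, ← hue]
      group
  copF := by
    intro l m hl hm hml u u' hu hu'
    obtain ⟨x, c, hc, h1, h2⟩ := D.exists_rep (l := l) hm
    obtain ⟨t, ht, hg⟩ := rr_spec F H hl
    rw [D.mem_II ht hg, h1] at hml
    have hx : x • v0 ∈ I0 := by
      have := I0.smul_mem c⁻¹ hml
      rwa [smul_smul, inv_mul_cancel₀ hc, one_smul] at this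
    rw [D.mem_II hc h2] at hu hu'
    have e : ∀ u : M, (rr F H v0 l * x)⁻¹ • u = x⁻¹ • (rr F H v0 l)⁻¹ • u := fun u => by
      rw [smul_smul]
      congr 1
      group
    rw [e] at hu hu'
    rw [D.act_AL, hF hx hu hu', smul_inv_smul]
  copL := by
    intro l m hl hm hml c₀ d hc₀ hcm hr
    obtain ⟨x, c, hc, h1, h2⟩ := D.exists_rep (l := l) hm
    obtain ⟨t, ht, hg⟩ := rr_spec F H hl
    rw [D.mem_II ht hg, h1] at hml
    have hx : x • v0 ∈ I0 := by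
      have := I0.smul_mem c⁻¹ hml
      rwa [smul_smul, inv_mul_cancel₀ hc, one_smul] at this
    rw [D.mem_AA_rr hl] at hc₀
    rw [D.mem_AA hc h2] at hcm
    obtain ⟨y, e, he, hy⟩ := hr
    rw [D.mem_AA he hy]
    obtain ⟨g, hgd⟩ : ∃ g, g = rr F H v0 l := ⟨_, rfl⟩
    rw [← hgd] at hc₀ hcm h1 h2 hg
    have hcm' : x⁻¹ * (g⁻¹ * c₀ * g) * x ∈ A0 := by
      have e : (g * x)⁻¹ * c₀ * (g * x) = x⁻¹ * (g⁻¹ * c₀ * g) * x := by group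
      rwa [e] at hcm
    have h3 : v0 + (t⁻¹ * d * c) • x • v0 = (t⁻¹ * e) • (g⁻¹ * y) • v0 := by
      have h4 : g⁻¹ • (l + d • m) = g⁻¹ • (e • y • v0) := by rw [hy]
      have h5 : g⁻¹ • l = t • v0 := by
        calc g⁻¹ • l = g⁻¹ • (t • g • v0) := by rw [← hg]
          _ = t • v0 := by rw [lin, inv_smul_smul]
      rw [smul_add, lin, h1, h5, lin, smul_smul d c] at h4
      have h6 : t⁻¹ • (t • v0 + (d * c) • x • v0) = t⁻¹ • (e • g⁻¹ • y • v0) := by rw [h4]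
      rw [smul_add, smul_smul t⁻¹ t, inv_mul_cancel₀ ht, one_smul, smul_smul t⁻¹ (d * c), smul_smul t⁻¹ e,
        smul_smul g⁻¹ y, ← mul_assoc] at h6
      exact h6
    have h7 := hL hx hc₀ hcm' (mul_ne_zero (inv_ne_zero ht) he) h3
    have e6 : (g⁻¹ * y)⁻¹ * (g⁻¹ * c₀ * g) * (g⁻¹ * y) = y⁻¹ * c₀ * y := by group
    rwa [e6] at h7

end TIq.Loc

/-- **the record `Sg.T.Cop` on `MF`**, `D_Z` arbitrary -/
theorem Co.cop {G : Type u} [Group G] [Finite G] {F : Type*} [Field F] [CharP F 2] {S : Sylow 2 G}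
    {B P V Z : Subgroup G} (h : Co F S B P V Z) [Finite F] (hN : NTr V Z) {ζ : F} (hζ0 : ζ ≠ 0) (hζ : ζ ≠ 1)
    {I0 : Submodule F h.MF} (hI : ∀ m, m ∈ I0 ↔ m ∈ h.Ib) (D : TIq.Loc F h.v0 h.A0 I0 h.al0) :
    Sg.T.Cop F (TIq.LL F h.HH h.v0) (TIq.AA F h.v0 h.A0) (TIq.II F (H := h.HH) h.v0 I0) (TIq.AL F h.v0 h.al0) := by
  refine D.toCop ?_ ?_ ?_
  · intro x a b hx ha hb
    obtain ⟨u, hu, e⟩ := h.copA0 hN hζ0 hζ ((hI _).1 hx) ha hb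
    exact ⟨u, (hI _).2 hu, e⟩
  · intro x u u' hx hu hu'
    exact h.copF0 hN hζ0 hζ ((hI _).1 hx) ((hI _).1 hu) ((hI _).1 hu')
  · intro x y c d e hx hc hcx he hy
    exact h.copL0 hN hζ0 hζ ((hI _).1 hx) hc hcx he hy

end Cfsg.Agent.Omega.NO3S.OneQ

end

section


/-!
# NO-3S, `OneSz` (`q ≥ 4`, `n = 1`), case (N), `k ≥ 2`: `D_x ≤ I` from TI

* `Loc.at_lemK`, `Loc.at_n6`, `Loc.at_S2_pair` : LEMMA K, partial pairs and (S2) at every pair of line vectors;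
* `Co.lemK_v0`, `Co.n6_v0` : the facts at `v0` (helper382);
* **`Co.dx_le`** : TI implies `D_Z ≤ I`.
-/

set_option autoImplicit false
set_option linter.unusedSectionVars false

namespace Cfsg.Agent.Omega.NO3S.OneQ.TIq.Loc

variable {F M H : Type*} [Field F] [AddCommGroup M] [Module F M] [Group H] [DistribMulAction H M]
  [SMulCommClass H F M] {v0 : M} {A0 : Subgroup H} {I0 : Submodule F M} {al0 : M → H}
  (D : Loc F v0 A0 I0 al0)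
include D

/-- the common coordinates of two line vectors -/
theorem pair_rep {l m : M} (hl : l ∈ LL F H v0) (hm : m ∈ LL F H v0) :
    ∃ (x : H) (c d : F), c ≠ 0 ∧ d ≠ 0 ∧ (rr F H v0 l)⁻¹ • m = d • x • v0 ∧ (rr F H v0 m)⁻¹ • l = c • x⁻¹ • v0 ∧
      x = (rr F H v0 l)⁻¹ * rr F H v0 m ∧ m = d • rr F H v0 m • v0 := by
  obtain ⟨c, hc, hlc⟩ := rr_spec F H hl
  obtain ⟨d, hd, hmd⟩ := rr_spec F H hm
  refine ⟨(rr F H v0 l)⁻¹ * rr F H v0 m, c, d, hc, hd, ?_, ?_, rfl, hmd⟩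
  · conv_lhs => rw [hmd]
    rw [lin, mul_smul]
  · conv_lhs => rw [hlc]
    rw [lin, mul_inv_rev, inv_inv, mul_smul]

/-- **LEMMA K** at every pair -/
theorem at_lemK (hK : ∀ {x : H}, al0 (x⁻¹ • v0) ≠ 1 → ∀ a : F, al0 (a • x • v0) • x • v0 = x • v0) {l m : M}
    (hl : l ∈ LL F H v0) (hm : m ∈ LL F H v0) (h2 : AL F v0 al0 m l ≠ 1) : AL F v0 al0 l m • m = m := by
  obtain ⟨x, c, d, hc, hd, e1, e2, hx, hmd⟩ := D.pair_rep hl hm
  rw [Ne, D.at_al_one, e2, D.al0_sm_iff hc] at h2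
  rw [D.act_AL, e1, lin, hK h2 d, ← e1, smul_inv_smul]

/-- **the pairs are partial** -/
theorem at_n6 (hn : ∀ {x a : H}, al0 (x⁻¹ • v0) ≠ 1 → a ∈ A0 → al0 (x⁻¹ • (a • x • v0 + x • v0)) = 1) {l m : M} {a : H}
    (hl : l ∈ LL F H v0) (hm : m ∈ LL F H v0) (h2 : AL F v0 al0 m l ≠ 1) (ha : a ∈ AA F v0 A0 l) :
    AL F v0 al0 m (a • m + m) = 1 := by
  obtain ⟨x, c, d, hc, hd, e1, e2, hx, hmd⟩ := D.pair_rep hl hm
  rw [Ne, D.at_al_one, e2, D.al0_sm_iff hc] at h2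
  rw [D.mem_AA_rr hl] at ha
  rw [D.at_al_one]
  obtain ⟨g, hg⟩ : ∃ g, g = rr F H v0 l := ⟨_, rfl⟩
  obtain ⟨k, hk⟩ : ∃ k, k = rr F H v0 m := ⟨_, rfl⟩
  rw [← hg] at hx ha e1
  rw [← hk] at hx hmd e2 ⊢
  have hxi : x⁻¹ = k⁻¹ * g := by rw [hx]; group
  have e3 : k⁻¹ • (a • m + m) = d • x⁻¹ • ((g⁻¹ * a * g) • x • v0 + x • v0) := by
    have e4 : a • k • v0 = g • (g⁻¹ * a * g) • x • v0 := by
      rw [hx]
      simp only [smul_smul]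
      congr 1
      group
    have e5 : k • v0 = g • x • v0 := by
      rw [hx, smul_smul, mul_inv_cancel_left]
    rw [hmd, lin, e4, e5, ← smul_add, ← smul_add, lin, smul_smul k⁻¹ g, ← hxi]
  rw [e3, D.al0_sm_iff hd]
  exact hn h2 ha

/-- **(S2)** at every pair -/
theorem at_S2_pair (hS : ∀ {x : H} {y y' : M}, al0 (x • v0) ≠ 1 → al0 (x⁻¹ • v0) ≠ 1 → al0 y • x • v0 = x • v0 →
      al0 y' • x • v0 = x • v0 → ∃ f g : F, ¬ (f = 0 ∧ g = 0) ∧ al0 (f • y + g • y') = 1) {l m y y' : M}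
    (hl : l ∈ LL F H v0) (hm : m ∈ LL F H v0) (h1 : AL F v0 al0 l m ≠ 1) (h2 : AL F v0 al0 m l ≠ 1)
    (hy : AL F v0 al0 l y • m = m) (hy' : AL F v0 al0 l y' • m = m) :
    ∃ f g : F, ¬ (f = 0 ∧ g = 0) ∧ AL F v0 al0 l (f • y + g • y') = 1 := by
  obtain ⟨x, c, d, hc, hd, e1, e2, hx, hmd⟩ := D.pair_rep hl hm
  rw [Ne, D.at_al_one, e2, D.al0_sm_iff hc] at h2
  rw [Ne, D.at_al_one, e1, D.al0_sm_iff hd] at h1
  have key : ∀ y, AL F v0 al0 l y • m = m → al0 ((rr F H v0 l)⁻¹ • y) • x • v0 = x • v0 := by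
    intro y hy
    rw [D.act_AL, e1, ← eq_inv_smul_iff, e1, lin] at hy
    have h3 := congrArg (fun w => d⁻¹ • w) hy
    simpa only [smul_smul, inv_mul_cancel₀ hd, one_smul] using h3
  obtain ⟨f, g, hfg, h3⟩ := hS h1 h2 (key y hy) (key y' hy')
  refine ⟨f, g, hfg, ?_⟩
  rw [D.at_al_one, smul_add, lin, lin]
  exact h3

end Cfsg.Agent.Omega.NO3S.OneQ.TIq.Loc

namespace Cfsg.Agent.Omega.NO3S.OneQ.Co

open Subgroup Cfsg.Agent.Omega.NO3S.PT Cfsg.Agent.Omega.NoFF.Basic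
open scoped Pointwise

universe u

variable {G : Type u} [Group G] [Finite G] {F : Type*} [Field F] [CharP F 2] [Finite F] {S : Sylow 2 G}
  {B P V Z : Subgroup G} (h : Co F S B P V Z)
include h

/-- LEMMA K at `v0` -/
theorem lemK_v0 (hN : NTr V Z) (hD : ¬ dd V Z Z ≤ IV V Z) {x : h.HH} (h2 : h.al0 (x⁻¹ • h.v0) ≠ 1) (a : F) :
    h.al0 (a • x • h.v0) • x • h.v0 = x • h.v0 := by
  obtain ⟨c, hc, rfl⟩ := h.exists_rH x
  rw [← h.rH_inv hc, Ne, h.al0_one hN] at h2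
  refine h.lemKM_of hN hD hc (h.not_V_le hN hc ?_) a
  intro h3
  exact h2 ((h.rc_inv_mem hc h.v0).2 h3)

/-- the pairs are partial at `v0` -/
theorem n6_v0 (hN : NTr V Z) (hD : ¬ dd V Z Z ≤ IV V Z) {x a : h.HH} (h2 : h.al0 (x⁻¹ • h.v0) ≠ 1) (ha : a ∈ h.A0) :
    h.al0 (x⁻¹ • (a • x • h.v0 + x • h.v0)) = 1 := by
  obtain ⟨c, hc, rfl⟩ := h.exists_rH x
  obtain ⟨w, hw, rfl⟩ := h.mem_A0.1 ha
  rw [← h.rH_inv hc] at h2 ⊢
  rw [Ne, h.al0_one hN] at h2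
  rw [h.al0_one hN]
  have hcN := centralizer_le_normalizer _ hc
  have hcZ : PT.cj c Z = Z := cj_eq_iff.2 hcN
  have hZM : Z ≤ PT.cj c V := by
    nth_rewrite 1 [← hcZ]
    exact cj_le_cj.2 h.one.pl.ZV
  have hVM : ¬ V ≤ ee (PT.cj c V) Z Z := h.not_V_le hN hc fun h3 => h2 ((h.rc_inv_mem hc h.v0).2 h3)
  have hpart := h.partial_of hN hD ⟨c, rfl⟩ hZM hVM h.pY h.Yp_ne w hw _ (conj_mem_cj (g := c) (h.e_memV 0 1))
  have hvW : c * h.e 0 1 * c⁻¹ ∈ ws V Z := h.W_conj hcN (h.W_V 0 1)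
  obtain ⟨hwx, hcomm⟩ := h.rp_comm hw hvW
  change h.rp ⟨c⁻¹, h.C_le_hat (inv_mem hc)⟩ (h.rp ⟨w, h.W_hat h.pY hw⟩ (h.rp ⟨c, h.C_le_hat hc⟩ h.v0) +
    h.rp ⟨c, h.C_le_hat hc⟩ h.v0) ∈ h.Eb
  rw [h.rc_inv_mem hc, h.rc_v0 hc, hcomm]
  exact (h.fm_Ec_iff hN hc hwx).2 hpart

/-- **TI implies `D_Z ≤ I`** -/
theorem dx_le (hN : NTr V Z) (hq : ∃ ζ : F, ζ ≠ 0 ∧ ζ ≠ 1)
    (ti : ∀ {l m : h.MF} {a : h.HH}, l ∈ TIq.LL F h.HH h.v0 → m ∈ TIq.LL F h.HH h.v0 → a ∈ TIq.AA F h.v0 h.A0 l →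
      a ∈ TIq.AA F h.v0 h.A0 m → a ≠ 1 → ∃ c : F, m = c • l) : dd V Z Z ≤ IV V Z := by
  by_contra hD
  have D := (h.locW hN hq).toLoc
  have G := h.sgPre hN hq
  obtain ⟨m, hm, h1, h2⟩ := D.at_sp (h.sp_v0 hN) (TIq.Loc.self_mem (F := F) (H := h.HH) (v0 := h.v0))
  have hl : h.v0 ∈ TIq.LL F h.HH h.v0 := TIq.Loc.self_mem
  refine G.dx_end ti hl hm h1 h2 (D.at_lemK (h.lemK_v0 hN hD) hl hm h2) (D.at_lemK (h.lemK_v0 hN hD) hm hl h1)
    (fun a ha => D.at_n6 (h.n6_v0 hN hD) hl hm h2 ha) (fun a ha => D.at_n6 (h.n6_v0 hN hD) hm hl h1 ha)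
    (fun y hy => D.at_S2_pair (fun a b c d => h.S20 hN a b c d) hl hm h1 h2 hy (D.at_lemK (h.lemK_v0 hN hD) hl hm h2))
    (fun y hy => D.at_S2_pair (fun a b c d => h.S20 hN a b c d) hm hl h2 h1 hy (D.at_lemK (h.lemK_v0 hN hD) hm hl h1))

end Cfsg.Agent.Omega.NO3S.OneQ.Co

end

end

-- merged: Cfsg.Agent.Mrg.Omega.NO3S.OneQ.Sg.Asm
section

/-!
# NO-3S, `OneSz` (`q ≥ 4`, `n = 1`), case (N), `k ≥ 2`: the record `Sg.SgB` on `MF` and TI (every `D_x`)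

* `Co.big_of` : `dim MF / Ē ≥ 2` in the form of `Co.jay`;
* **`Co.sgB`** : `Sg.SgB`; **`Co.ti_LL`** : TI at all line vectors;
* **`Co.tiw_big`** : `TIw V Z`.
-/

set_option autoImplicit false
set_option linter.unusedSectionVars false

namespace Cfsg.Agent.Omega.NO3S.OneQ.Co

open Subgroup Cfsg Cfsg.Agent.Omega.NO3S.PT Cfsg.Agent.Omega.NoFF.Basic
open scoped Pointwise

universe u

variable {G : Type u} [Group G] [Finite G] {F : Type*} [Field F] [CharP F 2] {S : Sylow 2 G} {B P V Z : Subgroup G}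
  (h : Co F S B P V Z)
include h

/-- `dim MF / Ē ≥ 2` -/
theorem big_of (hk : ¬ ∀ x y : h.MF, x ∉ h.Eb → ∃ c : F, y + c • x ∈ h.Eb) (m : h.MF) :
    ∃ x : h.MF, ∀ c : F, x + c • m ∉ h.Eb := by
  push Not at hk
  obtain ⟨x, y, hx, hy⟩ := hk
  by_contra hcon
  push Not at hcon
  obtain ⟨c, hc⟩ := hcon x
  obtain ⟨d, hd⟩ := hcon y
  have hc0 : c ≠ 0 := by
    rintro rfl
    rw [zero_smul, add_zero] at hc
    exact hx hc
  apply hy (d * c⁻¹)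
  have h1 := h.Eb.add_mem hd (h.Eb.smul_mem (d * c⁻¹) hc)
  have h2 : y + d • m + (d * c⁻¹) • (x + c • m) = y + (d * c⁻¹) • x := by
    rw [smul_add, smul_smul, inv_mul_cancel_right₀ hc0]
    have h3 := h.add_self (d • m)
    calc y + d • m + ((d * c⁻¹) • x + d • m) = y + (d * c⁻¹) • x + (d • m + d • m) := by abel
      _ = _ := by rw [h3, add_zero]
  rwa [h2] at h1

section

variable [Finite F] (hN : NTr V Z) (hq : ∃ ζ : F, ζ ≠ 0 ∧ ζ ≠ 1)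
  (hk : ∀ m : h.MF, ∃ x : h.MF, ∀ c : F, x + c • m ∉ h.Eb)
include hN hq hk

/-- **the record `Sg.SgB`** -/
theorem sgB : Sg.SgB F (TIq.LL F h.HH h.v0) (TIq.AA F h.v0 h.A0) (TIq.II F (H := h.HH) h.v0 h.IF)
    (TIq.AL F h.v0 h.al0) :=
  (h.locW hN hq).toLoc.toSgB (h.sgPre hN hq)
    (fun h1 h2 ha h3 => by
      obtain ⟨j, hj, hj'⟩ := h.J0 hN hk h1 h2 ha h3
      exact ⟨j, (h.mem_IF hN hq).2 hj, hj'⟩)
    fun ha ha1 => h.bs0 ha ha1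

/-- **TI at all line vectors** -/
theorem ti_LL (hG : IsCharacteristicTwoType G) {l m : h.MF} {a : h.HH} (hl : l ∈ TIq.LL F h.HH h.v0)
    (hm : m ∈ TIq.LL F h.HH h.v0) (ha : a ∈ TIq.AA F h.v0 h.A0 l) (ham : a ∈ TIq.AA F h.v0 h.A0 m) (ha1 : a ≠ 1) :
    ∃ c : F, m = c • l := by
  have : Finite h.HH := Set.finite_range h.ru
  have := h.finMF
  have : FiniteDimensional F h.MF := Module.Finite.of_finite
  have D := (h.locW hN hq).toLoc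
  obtain ⟨ζ, hζ0, hζ⟩ := hq
  refine (h.sgB hN ⟨ζ, hζ0, hζ⟩ hk).ti_main (h.cop hN hζ0 hζ (fun _ => h.mem_IF hN ⟨ζ, hζ0, hζ⟩) D) ?_ ?_ ?_ ?_
    hl hm ha ham ha1
  · intro l m x f hl hm h1 h2 hf hfl hfx hx
    exact D.at_K (fun f hf hf0 hy hq a => h.K_v0 hG hN f hf hf0 hy hq a) f hl hm hf hfl hfx hx
  · exact fun hl => D.at_sp (h.sp_v0 hN) hl
  · exact fun hl => D.at_big (h.big_v0 hN hk) hl
  · intro l m hl hm hml hnp hA _
    exact (h.preIA hN ⟨ζ, hζ0, hζ⟩).fold (h.nn_N hN)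
      (h.ker_of_Q hG (h.preIA hN ⟨ζ, hζ0, hζ⟩).act) hl hm hnp hA

/-- **`TIw V Z`**, `k ≥ 2`, every `D_x` -/
theorem tiw_big (hG : IsCharacteristicTwoType G) : TIw V Z := by
  refine h.tiw_of fun c hc hcV a ha b hb hab => ?_
  by_contra hne
  have haC := h.one.W_le_C h.pY ha
  have hbC := h.one.W_le_C h.pY hb
  have hcbC : c * b * c⁻¹ ∈ centralizer (Z : Set G) := mul_mem (mul_mem hc hbC) (inv_mem hc)
  have hK : Ker h.ru.rangeRestrict V := h.ker_of_Q hG (h.preIA hN hq).act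
  have h1 : h.rH a haC ≠ 1 := fun h2 => hne (hK a haC h2 fun r hr => by
    have := inv_mem (h.rd_comm h.pY h.Yp_ne hr ha)
    have e : (r * a * r⁻¹ * a⁻¹)⁻¹ = a * r * a⁻¹ * r⁻¹ := by group
    rwa [e] at this)
  have h2 : h.rH (c * b * c⁻¹) hcbC = h.rH a haC := by
    have h3 := h.rH_K hab
    have e1 := h.rH_mul (inv_mem haC) hcbC
    have e2 := h.rH_inv haC
    rw [e2] at e1
    rw [e1, inv_mul_eq_one] at h3
    exact h3.symm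
  have D := (h.locW hN hq).toLoc
  have hv : h.v0 ∈ TIq.LL F h.HH h.v0 := TIq.Loc.self_mem
  have hm : h.rH c hc • h.v0 ∈ TIq.LL F h.HH h.v0 := TIq.Loc.smul_mem _ hv
  have hA0 : h.rH a haC ∈ TIq.AA F h.v0 h.A0 h.v0 := by
    rw [D.mem_AA (x := 1) (c := 1) one_ne_zero (by rw [one_smul, one_smul]), inv_one, one_mul, mul_one]
    exact h.mem_A0.2 ⟨a, ha, rfl⟩
  have hA1 : h.rH a haC ∈ TIq.AA F h.v0 h.A0 (h.rH c hc • h.v0) := by
    rw [← h2]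
    have e1 := h.rH_mul (mul_mem hc hbC) (inv_mem hc)
    have e2 := h.rH_mul hc hbC
    have e3 := h.rH_inv hc
    rw [e1, e2, e3]
    refine D.at_A_conj _ hv ?_
    rw [D.mem_AA (x := 1) (c := 1) one_ne_zero (by rw [one_smul, one_smul]), inv_one, one_mul, mul_one]
    exact h.mem_A0.2 ⟨b, hb, rfl⟩
  obtain ⟨d, hd⟩ := h.ti_LL hN hq hk hG hv hm hA0 hA1 h1
  exact hcV (cj_eq_iff.2 (h.norm_of_smul_N hN hc hd))

end

end Cfsg.Agent.Omega.NO3S.OneQ.Co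

end
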